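/-
Certificates bounding the 2-, 3- and 5-parts of the multiplier of the Higman-Sims group.
-/
import Cfsg.Agent.Lib.PcCover.Collect

set_option autoImplicit false
set_option maxRecDepth 100000

namespace Cfsg.Agent.HSPerm.Upper

/-- The letters as words. -/
def twoWords : List (List ℕ) :=
  [[6, 6, 0, 7, 3, 2, 6, 4, 6],
    [0, 4, 4, 3, 6, 7, 4, 7, 6, 6, 7],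
    [1, 0, 0, 0, 2, 3, 2, 2, 4, 6, 6, 4, 7, 8, 8, 7, 8],
    [5, 7, 0, 4, 7, 2, 4, 6, 4, 4, 7, 8, 7, 6, 6, 8, 8],
    [8, 1, 5, 2, 3, 4, 4, 8, 6, 6],
    [2, 0, 0, 4, 2, 8, 5, 5, 4, 8, 8, 7, 6, 8],
    [4, 4, 2, 5, 6, 6, 4, 7, 8, 7, 8, 8],
    [4, 2, 1, 0, 2, 6, 3, 6, 7, 4, 8, 7, 8, 8, 7],
    [4, 2, 1, 0, 2, 3, 2, 2, 6, 4, 7, 8, 7],
    [4, 1, 1, 3, 2, 5, 2, 7, 4, 4, 7, 6, 6, 7, 8],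
    [1, 6, 0, 7, 8, 5, 2, 4, 8, 4, 7, 6, 7, 8, 8]]

/-- The letters as packed tables. -/
def twoTabs : List ℕ :=
  [0x14d930b6e22e5d3e889bba6d0795ae8144fa1303ce5718b017b28e9162b1fb9823a3b8b0ca03cbf8815620ea19b125d1c2969cc5155840215b69252b61a2946064d295d26a1cb236233aaf8904c18d7de9a7818c0ad6425,
    0x9d58807bee2edc991e05811887323eac125158dadb72664a4b4362860ab08d97ee998076fa5de6eda6b47b50bb05e6cf42a484620123e8484655528a6b49165c6a518627111416760e14d56329273d3d7c11218407440bc,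
    0x7958732b932c5f15003dd3f881479c415b84b4c2de36d463aa8a97a350ecada0c788e3852095058d253613801978a4d337a318a4344b678f889c699aef8596960500460720a95ce5ed249850c93b6d980b2fe6986354d08,
    0x9959fa176f1642a6698b73f8a2a3b6a8b804a282e336cc6398842ac72771301c2788debe4a408b0d04b69436cab04a0add6148a2e410678ba867027aef8798976911ca2116a986e9ec63a199494939ab8063a6960ebe050,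
    0xaf8a8dabf3eedca182a58c75a95901570dbbc21025170ca2d0f1a28694b04b2463d11f6e9898a76d94342b00b835e4a4421ca863522ea61e7ef50cd7890d9c3a6829862599c972b93827cac6a996e20ce8f10c8460400d3,
    0x3f8882bbe96e5d111c15899587329c1e03879405cf4104a2eaafe21a90b09591a887d776989d36ed94342b840a16226542a4c063936cf1858cf41cdbc748964818f045e71d496ab4cd47d691a9976e180c1153985544b8a,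
    0xbd5aad1bf8ee5db752958af8b0daa1670539ee1ccc6a7a49b65111c64eb0eab34e99bc76fa6ce6ed25b67b1d0af6090cc2805d4a08688fae8a998a84b2a09c90fd6985458794164490e2a4030c26282880434484021c180,
    0xc78a8d5b17ae5d014aa5faf5b059a16b0d39ee1f4c7a264920e0508382b21902f365bc6ee5d4e76d99b46a091861ab57421c694953a4d299622e28f3e1539c22a92187e594144d20dc040ad78c442250a8ec0f0488ca35b,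
    0xbd8aa52bf8eedc01568d89f5ad61a182cd3aee25bc9a4a4891c34d065d0968246f5f4c76cdace6ed9cb47440b83030e0ac0e854934854fa77e3d50b4a44c9c0b14e9862593145128f32451e30c402240a5710d8461017db,
    0x3e285a0a095b34aea09d3ba2130f6e88abbb97e0ac5c68a3f90ac690b38aa928890ec29cb53d87000cdb864630e8186956361824bb4d6f6060f41b3c65e8a95406a1c5f25d0c7c851859b2a39673318bc3c0a2980e2594f,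
    0x72328da08eb1de960581c1326361234831b94faeb5b8554a6aa1c832166105956edbb3996dc4d78da734000cba162887965eab15886b09411d4cd0a90916a53b0174f7e7e114bea0cc4a1823d610789851a093d78b511bd]

/-- The rules. -/
def twoRules : PcCover.Rules :=
  [([0, 0], []),
    ([1, 1], []),
    ([2, 2], []),
    ([3, 3], []),
    ([4, 4], []),
    ([5, 5], [8]),
    ([6, 6], []),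
    ([7, 7], []),
    ([8, 8], []),
    ([1, 0], [0, 1, 5, 6]),
    ([2, 0], [0, 2, 3, 5, 6, 8]),
    ([2, 1], [1, 2, 4]),
    ([3, 0], [0, 3]),
    ([3, 1], [1, 3, 5, 8]),
    ([3, 2], [2, 3]),
    ([4, 0], [0, 4, 5, 7]),
    ([4, 1], [1, 4]),
    ([4, 2], [2, 4]),
    ([4, 3], [3, 4, 7, 8]),
    ([5, 0], [0, 5]),
    ([5, 1], [1, 5, 8]),
    ([5, 2], [2, 5, 7]),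
    ([5, 3], [3, 5, 8]),
    ([5, 4], [4, 5, 8]),
    ([6, 0], [0, 6, 8]),
    ([6, 1], [1, 6]),
    ([6, 2], [2, 6, 7, 8]),
    ([6, 3], [3, 6, 8]),
    ([6, 4], [4, 6, 8]),
    ([6, 5], [5, 6]),
    ([7, 0], [0, 7, 8]),
    ([7, 1], [1, 7, 8]),
    ([7, 2], [2, 7]),
    ([7, 3], [3, 7]),
    ([7, 4], [4, 7]),
    ([7, 5], [5, 7]),
    ([7, 6], [6, 7]),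
    ([8, 0], [0, 8]),
    ([8, 1], [1, 8]),
    ([8, 2], [2, 8]),
    ([8, 3], [3, 8]),
    ([8, 4], [4, 8]),
    ([8, 5], [5, 8]),
    ([8, 6], [6, 8]),
    ([8, 7], [7, 8])]

/-- The relations. -/
def twoRels : List PcCover.Rel :=
  [.cons [1] 0,
    .cons [1] 9,
    .cons [2] 0,
    .cons [2] 1,
    .cons [2] 9,
    .cons [2] 10,
    .cons [2] 11,
    .cons [3] 0,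
    .cons [3] 1,
    .cons [3] 2,
    .cons [3] 9,
    .cons [3] 10,
    .cons [3] 11,
    .cons [3] 13,
    .cons [4] 0,
    .cons [4] 1,
    .cons [4] 3,
    .cons [4] 9,
    .cons [4] 10,
    .cons [4] 12,
    .cons [4] 13,
    .cons [4] 14,
    .cons [4] 15,
    .cons [4] 18,
    .cons [5] 0,
    .cons [5] 1,
    .cons [5] 2,
    .cons [5] 3,
    .cons [5] 4,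
    .cons [5] 5,
    .cons [5] 9,
    .cons [5] 10,
    .cons [5] 11,
    .cons [5] 12,
    .cons [5] 14,
    .cons [5] 18,
    .cons [6] 0,
    .cons [6] 2,
    .cons [6] 5,
    .fus 9 [3, 4, 8] [5, 6, 7] [0, 1, 3, 7] [3, 4],
    .fus 9 [6, 7, 8] [1, 4] [7] [2, 5, 6, 7],
    .fus 10 [2, 3, 4, 5] [7, 8] [4, 5, 8] [2, 3]]

/-- The echelon rows. -/
def twoBasis : List (ℕ × List ℤ × List ℤ) :=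
  [(3, [0, 0, 0, 1, 0, 0, 0, 0, 0, -2, 2, 0, 0, 0, 0, 0, 0, 0, 0, 0, 0, 0, 0, 0, 0, 0, 0, 0, 0, 0, 0, -2, 0, 0, 0, 0, 0, 0, 0, 0, 0, 0, 0, 0, 0], [1, 0, 0, 0, 0, 0, 0, 0, 0, 0, 0, 0, 0, 0, 0, 0, 0, 0, 0, 0, 0, 0, 0, 0, 0, 0, 0, 0, 0, 0, 0, 0, 0, 0, 0, 0, 0, 0, 0, 0, 0, 0, 0]),
    (4, [0, 0, 0, 0, 1, 0, 0, 0, 0, 0, 0, 2, 0, 0, 0, 0, 0, 0, 0, 0, 0, 0, 0, 0, 0, 0, 0, 0, 0, 0, 0, 0, 0, 0, 0, 0, 0, 0, 0, 0, 0, 0, 0, 0, 0], [6, -4, -10, 2, 2, 10, 8, 1, -2, -3092, 4, 431, -433, -313, -3096, 411, -2, -411, 1006, -1004, -391, 1054, -344, 417, -69, -420, 2048, -660, -2256, -495, 4503, -409, -20, -38, 366, 0, -12, 1, -1, -2, 2, 0, -1]),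
    (5, [0, 0, 0, 0, 0, 1, 0, 0, 0, 0, 0, 0, 0, 0, 0, 2, 0, 0, 0, 0, 0, 0, 0, 0, 0, 0, -2, 0, 0, 0, 0, 1, 0, 0, 0, 0, 0, 0, 0, 0, 0, 0, 0, 0, 0], [-2, 2, 4, 0, 0, -4, -2, 0, 0, 1009, -1, -134, 136, 105, 1011, -136, 0, 136, -331, 331, 130, -343, 112, -139, 25, 134, -670, 219, 739, 159, -1472, 128, 6, 9, -123, 0, 4, -1, 0, 0, 0, 0, 0]),
    (6, [0, 0, 0, 0, 0, 0, 1, 0, 0, 2, 0, 0, 0, 0, 0, -2, 0, 0, 0, 0, 0, 0, 0, 0, 0, 0, 2, 0, 0, 0, 0, -2, 0, 0, 0, 0, 0, 0, 0, 0, 0, 0, 0, 0, 0], [2, -2, -5, 0, 0, 4, 2, 0, 0, -959, 1, 128, -130, -101, -961, 130, 0, -130, 316, -315, -124, 327, -107, 133, -25, -128, 637, -209, -703, -152, 1395, -126, -6, -8, 121, 0, -2, 1, 0, 1, 0, -1, 0]),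
    (7, [0, 0, 0, 0, 0, 0, 0, 1, 0, 0, 0, 0, 0, 0, 0, 0, 0, 0, 0, 0, 0, 0, 0, 0, 0, 0, 2, 0, 0, 0, 0, -2, 0, 0, 0, 0, 0, 0, 0, 0, 0, 0, 0, 0, 0], [0, 0, 0, 0, 0, 0, 0, 0, 0, 59, 0, -8, 8, 7, 59, -8, 0, 8, -19, 19, 8, -20, 5, -8, 2, 8, -39, 13, 43, 9, -86, 8, 0, -1, -8, 0, 0, 0, 1, 0, 0, 0, 0]),
    (8, [0, 0, 0, 0, 0, 0, 0, 0, 1, 0, 0, 0, 0, 0, 0, 0, 0, 0, 0, 0, 0, 0, 0, 0, 0, 0, 0, 0, 0, 0, 0, 2, 0, 0, 0, 0, 0, 0, 0, 0, 0, 0, 0, 0, 0], [0, 0, 0, 0, 0, 0, 0, 0, 0, -31, 0, 6, -6, -3, -31, 4, 0, -4, 9, -9, -4, 11, -3, 4, -1, -5, 20, -6, -22, -5, 44, -6, 0, 0, 4, 0, 1, 0, 0, 0, 0, 0, 0]),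
    (12, [0, 0, 0, 0, 0, 0, 0, 0, 0, 0, 0, 0, 1, 0, 0, 0, 0, 0, 0, 0, 0, 0, 0, 0, 0, 0, 0, 0, 0, 0, 0, 0, 0, 0, 0, 0, 0, 0, 0, 0, 0, 0, 0, 0, 0], [1, 1, 0, -1, 0, 0, 0, 0, 1, -31, 0, 6, -5, -3, -31, 4, 0, -4, 9, -9, -4, 11, -3, 4, -1, -5, 20, -6, -22, -5, 43, -8, 0, 0, 7, 0, 1, 0, 0, 1, 0, 0, 0]),
    (13, [0, 0, 0, 0, 0, 0, 0, 0, 0, 0, 0, 0, 0, 1, 0, -1, 0, 0, 0, 0, 0, 0, 0, 0, 0, 0, 1, 0, 0, 0, 0, -2, 0, 0, 0, 0, 0, 0, 0, 0, 0, 0, 0, 0, 0], [0, 0, 0, 0, 0, -1, 0, 0, 0, 151, 0, -20, 21, 14, 151, -20, 0, 20, -48, 49, 19, -51, 15, -20, 3, 20, -100, 32, 110, 23, -220, 18, 1, 2, -17, 0, 1, 0, 1, 0, 0, -1, 0]),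
    (14, [0, 0, 0, 0, 0, 0, 0, 0, 0, 0, 0, 0, 0, 0, 1, 0, 0, 0, 0, 0, 0, 0, 0, 0, 0, 0, 0, 0, 0, 0, 0, 0, 0, 0, 0, 0, 0, 0, 0, 0, 0, 0, 0, 0, 0], [4, -5, -9, 1, 1, 9, 5, 1, -1, -2566, 3, 343, -347, -265, -2570, 343, -1, -344, 841, -840, -328, 872, -284, 348, -60, -341, 1703, -555, -1877, -407, 3741, -327, -15, -24, 309, 0, -15, 2, -2, -1, 1, 0, -1]),
    (16, [0, 0, 0, 0, 0, 0, 0, 0, 0, 0, 0, 0, 0, 0, 0, 0, 1, 0, 0, 0, 0, 0, 0, 0, 0, 0, 0, 0, 0, 0, 0, 0, 0, 0, 0, 0, 0, 0, 0, 0, 0, 0, 0, 0, 0], [6, -4, -10, 2, 1, 10, 8, 1, -2, -3092, 4, 431, -433, -313, -3096, 411, -1, -411, 1006, -1004, -391, 1054, -344, 417, -69, -420, 2048, -660, -2256, -495, 4503, -409, -20, -38, 366, 0, -12, 1, -1, -2, 2, 0, -1]),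
    (17, [0, 0, 0, 0, 0, 0, 0, 0, 0, 0, 0, 0, 0, 0, 0, 0, 0, 1, 0, 0, 0, 0, 0, 0, 0, 0, 0, 0, 0, 0, 0, 0, 0, 0, 0, 0, 0, 0, 0, 0, 0, 0, 0, 0, 0], [2, -6, -8, 0, 0, 8, 2, 0, 0, -2040, 1, 255, -261, -217, -2044, 275, 0, -277, 676, -676, -265, 690, -224, 279, -51, -262, 1358, -450, -1498, -319, 2979, -245, -10, -10, 252, 0, -18, 3, -3, 0, 0, 0, -1]),
    (18, [0, 0, 0, 0, 0, 0, 0, 0, 0, 0, 0, 0, 0, 0, 0, 0, 0, 0, 1, 0, 0, 0, 0, 0, 0, 0, -1, 0, 0, 0, 0, 0, 0, 0, 0, 0, 0, 0, 0, 0, 0, 0, 0, 0, 0], [3, -3, -6, 1, 1, 7, 4, 1, -1, -1983, 2, 266, -269, -203, -1986, 264, -1, -265, 649, -649, -252, 673, -219, 268, -45, -264, 1316, -428, -1450, -314, 2892, -252, -12, -20, 236, 0, -13, 1, -2, -1, 1, 1, -1]),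
    (19, [0, 0, 0, 0, 0, 0, 0, 0, 0, 0, 0, 0, 0, 0, 0, 0, 0, 0, 0, 1, 0, 0, 0, 0, 0, 0, 0, 0, 0, 0, 0, 0, 0, 0, 0, 0, 0, 0, 0, 0, 0, 0, 0, 0, 0], [0, 0, 0, 0, 0, 0, 0, 0, 0, 45, 0, -5, 5, 5, 45, -6, 0, 6, -15, 15, 6, -15, 5, -6, 1, 6, -30, 10, 33, 7, -66, 5, 0, 0, -6, 0, 1, 0, 0, 0, 0, 0, 0]),
    (20, [0, 0, 0, 0, 0, 0, 0, 0, 0, 0, 0, 0, 0, 0, 0, 0, 0, 0, 0, 0, 1, 0, 0, 0, 0, 0, 0, 0, 0, 0, 0, -1, 0, 0, 0, 0, 0, 0, 0, 0, 0, 0, 0, 0, 0], [0, 0, 0, 0, 0, 0, 0, 0, 0, 37, 0, -5, 5, 4, 37, -5, 0, 5, -12, 12, 5, -13, 4, -5, 1, 5, -24, 8, 27, 6, -54, 5, 0, 0, -5, 0, 0, 0, 0, 0, 0, 0, 0]),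
    (21, [0, 0, 0, 0, 0, 0, 0, 0, 0, 0, 0, 0, 0, 0, 0, 0, 0, 0, 0, 0, 0, 1, 0, 0, 0, 0, -1, 0, 0, 0, 0, 1, 0, 0, 0, 0, 0, 0, 0, 0, 0, 0, 0, 0, 0], [-5, 5, 10, -1, -1, -11, -6, -1, 1, 2904, -3, -390, 395, 297, 2909, -388, 1, 389, -950, 950, 370, -987, 321, -394, 67, 387, -1927, 627, 2124, 460, -4234, 370, 18, 30, -347, 0, 16, -2, 2, 1, -1, -1, 1]),
    (22, [0, 0, 0, 0, 0, 0, 0, 0, 0, 0, 0, 0, 0, 0, 0, 0, 0, 0, 0, 0, 0, 0, 1, 0, 0, 0, 0, 0, 0, 0, 0, -1, 0, 0, 0, 0, 0, 0, 0, 0, 0, 0, 0, 0, 0], [0, 0, 0, 0, 0, 0, 0, 0, 0, 38, 0, -5, 5, 4, 38, -5, 0, 5, -12, 12, 5, -13, 4, -5, 1, 5, -25, 8, 28, 6, -55, 5, 0, 0, -5, 0, 0, 0, 0, 0, 0, 0, 0]),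
    (23, [0, 0, 0, 0, 0, 0, 0, 0, 0, 0, 0, 0, 0, 0, 0, 0, 0, 0, 0, 0, 0, 0, 0, 1, 0, 0, 0, 0, 0, 0, 0, -1, 0, 0, 0, 0, 0, 0, 0, 0, 0, 0, 0, 0, 0], [0, 0, 0, 0, 0, 0, 0, 0, 0, 29, 0, -4, 4, 3, 29, -4, 0, 4, -9, 9, 4, -10, 3, -4, 1, 4, -19, 6, 21, 5, -42, 4, 0, 0, -4, 0, 0, 0, 0, 0, 0, 0, 0]),
    (24, [0, 0, 0, 0, 0, 0, 0, 0, 0, 0, 0, 0, 0, 0, 0, 0, 0, 0, 0, 0, 0, 0, 0, 0, 1, 0, 0, 0, 0, 0, 0, -1, 0, 0, 0, 0, 0, 0, 0, 0, 0, 0, 0, 0, 0], [0, -1, -1, 0, 0, 0, 0, 0, 0, -85, 0, 9, -9, -11, -85, 12, 0, -12, 30, -29, -12, 29, -10, 12, -3, -10, 57, -20, -63, -14, 124, -10, 0, 1, 12, 0, -1, 1, 0, 0, 0, -1, 0]),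
    (25, [0, 0, 0, 0, 0, 0, 0, 0, 0, 0, 0, 0, 0, 0, 0, 0, 0, 0, 0, 0, 0, 0, 0, 0, 0, 1, 0, 0, 0, 0, 0, 0, 0, 0, 0, 0, 0, 0, 0, 0, 0, 0, 0, 0, 0], [0, 0, 0, 0, 0, 0, 0, 0, 0, 34, 0, -5, 5, 5, 34, -5, 0, 5, -12, 11, 5, -12, 4, -5, 2, 5, -23, 8, 25, 6, -49, 6, 0, -1, -6, 0, -1, 0, 0, 0, 0, 1, 0]),
    (27, [0, 0, 0, 0, 0, 0, 0, 0, 0, 0, 0, 0, 0, 0, 0, 0, 0, 0, 0, 0, 0, 0, 0, 0, 0, 0, 0, 1, 0, 0, 0, -1, 0, 0, 0, 0, 0, 0, 0, 0, 0, 0, 0, 0, 0], [0, 0, 0, 0, 0, 0, 0, 0, 0, 38, 0, -5, 6, 4, 38, -5, 0, 5, -12, 12, 5, -13, 4, -5, 1, 5, -25, 8, 27, 6, -57, 3, 0, 0, -3, 0, 0, 0, 0, 1, 0, 0, 0]),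
    (28, [0, 0, 0, 0, 0, 0, 0, 0, 0, 0, 0, 0, 0, 0, 0, 0, 0, 0, 0, 0, 0, 0, 0, 0, 0, 0, 0, 0, 1, 0, 0, -1, 0, 0, 0, 0, 0, 0, 0, 0, 0, 0, 0, 0, 0], [0, 0, 0, 0, 0, 0, 0, 0, 0, -36, 0, 5, -5, -3, -36, 5, 0, -5, 12, -11, -4, 12, -4, 5, -1, -5, 24, -7, -26, -6, 52, -5, -1, -1, 4, 0, 0, 0, 0, 0, 0, 0, 0]),
    (29, [0, 0, 0, 0, 0, 0, 0, 0, 0, 0, 0, 0, 0, 0, 0, 0, 0, 0, 0, 0, 0, 0, 0, 0, 0, 0, 0, 0, 0, 1, 0, 0, 0, 0, 0, 0, 0, 0, 0, 0, 0, 0, 0, 0, 0], [0, 0, 0, 0, 0, 0, 0, 0, 0, 0, 0, 0, 0, 0, 0, 0, 0, 0, 0, 0, 0, 0, 0, 0, 0, 0, 0, 0, 0, 0, -1, -1, 0, 0, 1, 0, 0, 0, 0, 1, 0, 0, 0]),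
    (30, [0, 0, 0, 0, 0, 0, 0, 0, 0, 0, 0, 0, 0, 0, 0, 0, 0, 0, 0, 0, 0, 0, 0, 0, 0, 0, 0, 0, 0, 0, 1, -1, 0, 0, 0, 0, 0, 0, 0, 0, 0, 0, 0, 0, 0], [0, 2, 2, 0, 0, -2, 0, 0, 0, 399, 0, -48, 50, 43, 400, -54, 0, 55, -133, 133, 53, -135, 43, -55, 11, 50, -266, 89, 294, 62, -582, 46, 2, 1, -50, 0, 3, -1, 1, 0, 0, 0, 0]),
    (32, [0, 0, 0, 0, 0, 0, 0, 0, 0, 0, 0, 0, 0, 0, 0, 0, 0, 0, 0, 0, 0, 0, 0, 0, 0, 0, 0, 0, 0, 0, 0, 0, 1, 0, 0, 0, 0, 0, 0, 0, 0, 0, 0, 0, 0], [0, 2, 2, 0, 0, -2, 0, 0, 0, 417, 0, -51, 53, 45, 418, -57, 0, 57, -139, 139, 55, -141, 46, -58, 11, 53, -278, 93, 307, 65, -609, 49, 2, 2, -52, 0, 3, -1, 1, 0, 0, 0, 0]),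
    (33, [0, 0, 0, 0, 0, 0, 0, 0, 0, 0, 0, 0, 0, 0, 0, 0, 0, 0, 0, 0, 0, 0, 0, 0, 0, 0, 0, 0, 0, 0, 0, 0, 0, 1, 0, 0, 0, 0, 0, 0, 0, 0, 0, 0, 0], [0, 2, 2, 0, 0, -2, 0, 0, 0, 433, 0, -51, 53, 47, 434, -59, 0, 60, -145, 145, 57, -146, 47, -60, 12, 54, -289, 97, 319, 67, -633, 49, 2, 1, -54, 0, 4, -1, 1, 0, 0, 0, 0]),
    (34, [0, 0, 0, 0, 0, 0, 0, 0, 0, 0, 0, 0, 0, 0, 0, 0, 0, 0, 0, 0, 0, 0, 0, 0, 0, 0, 0, 0, 0, 0, 0, 0, 0, 0, 1, 0, 0, 0, 0, 0, 0, 0, 0, 0, 0], [0, 2, 2, 0, 0, -2, 0, 0, 0, 415, 0, -49, 51, 45, 416, -57, 0, 57, -139, 139, 55, -140, 45, -58, 11, 52, -277, 93, 306, 64, -607, 47, 2, 1, -52, 0, 4, -1, 1, 0, 0, 0, 0]),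
    (35, [0, 0, 0, 0, 0, 0, 0, 0, 0, 0, 0, 0, 0, 0, 0, 0, 0, 0, 0, 0, 0, 0, 0, 0, 0, 0, 0, 0, 0, 0, 0, 0, 0, 0, 0, 1, 0, 0, 0, 0, 0, 0, 0, 0, 0], [0, 0, 0, 0, 0, 0, 0, 0, 0, 18, 0, -2, 2, 2, 18, -2, 0, 2, -6, 6, 2, -6, 2, -2, 0, 2, -12, 4, 13, 3, -27, 2, 0, 0, -2, 0, 1, 0, 0, 0, 0, 0, 0]),
    (36, [0, 0, 0, 0, 0, 0, 0, 0, 0, 0, 0, 0, 0, 0, 0, 0, 0, 0, 0, 0, 0, 0, 0, 0, 0, 0, 0, 0, 0, 0, 0, 0, 0, 0, 0, 0, 1, 0, 0, 0, 0, 0, 0, 0, 0], [0, 0, 0, 0, 0, 0, 0, 0, 0, -34, 0, 6, -6, -2, -34, 4, 0, -4, 10, -10, -3, 12, -4, 4, 0, -5, 22, -6, -24, -6, 50, -5, -1, -2, 2, 0, 0, 0, 0, 0, 0, 0, 0]),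
    (37, [0, 0, 0, 0, 0, 0, 0, 0, 0, 0, 0, 0, 0, 0, 0, 0, 0, 0, 0, 0, 0, 0, 0, 0, 0, 0, 0, 0, 0, 0, 0, 0, 0, 0, 0, 0, 0, 1, 0, 0, 0, 0, 0, 0, 0], [0, 0, 0, 0, 0, 0, 0, 0, 0, 0, 0, 0, 0, 0, 0, 0, 0, 0, 0, 0, 0, 0, 0, 0, 0, 0, 0, 0, 0, 0, 0, 0, 0, 0, 1, 0, 0, 0, 0, 0, 0, 0, 0]),
    (38, [0, 0, 0, 0, 0, 0, 0, 0, 0, 0, 0, 0, 0, 0, 0, 0, 0, 0, 0, 0, 0, 0, 0, 0, 0, 0, 0, 0, 0, 0, 0, 0, 0, 0, 0, 0, 0, 0, 1, 0, 0, 0, 0, 0, 0], [0, 0, 0, 0, 0, 0, 0, 0, 0, 47, 0, -6, 6, 5, 47, -6, 0, 6, -15, 15, 6, -15, 5, -6, 1, 6, -31, 10, 34, 7, -68, 6, 0, 0, -6, 0, 1, 0, 0, 0, 0, 0, 0]),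
    (39, [0, 0, 0, 0, 0, 0, 0, 0, 0, 0, 0, 0, 0, 0, 0, 0, 0, 0, 0, 0, 0, 0, 0, 0, 0, 0, 0, 0, 0, 0, 0, 0, 0, 0, 0, 0, 0, 0, 0, 1, 0, 0, 0, 0, 0], [0, -2, -2, 0, 0, 2, 0, 0, 0, -417, 0, 51, -53, -45, -418, 57, 0, -57, 139, -139, -55, 141, -45, 58, -11, -53, 278, -93, -307, -65, 609, -49, -2, -2, 52, 0, -3, 1, -1, 0, 0, 0, 0]),
    (40, [0, 0, 0, 0, 0, 0, 0, 0, 0, 0, 0, 0, 0, 0, 0, 0, 0, 0, 0, 0, 0, 0, 0, 0, 0, 0, 0, 0, 0, 0, 0, 0, 0, 0, 0, 0, 0, 0, 0, 0, 1, 0, 0, 0, 0], [0, 0, 0, 0, 0, 0, 0, 0, 0, 45, 0, -6, 6, 5, 45, -6, 0, 6, -15, 15, 6, -15, 5, -6, 1, 6, -30, 10, 33, 7, -66, 6, 0, 0, -6, 0, 1, 0, 0, 0, 0, 0, 0]),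
    (41, [0, 0, 0, 0, 0, 0, 0, 0, 0, 0, 0, 0, 0, 0, 0, 0, 0, 0, 0, 0, 0, 0, 0, 0, 0, 0, 0, 0, 0, 0, 0, 0, 0, 0, 0, 0, 0, 0, 0, 0, 0, 1, 0, 0, 0], [0, 0, 0, 0, 0, 0, 0, 0, 0, 63, 0, -8, 8, 7, 63, -8, 0, 8, -21, 21, 8, -21, 7, -8, 1, 8, -42, 14, 46, 10, -92, 8, 0, 0, -8, 0, 1, 0, 0, 0, 0, 0, 0]),
    (42, [0, 0, 0, 0, 0, 0, 0, 0, 0, 0, 0, 0, 0, 0, 0, 0, 0, 0, 0, 0, 0, 0, 0, 0, 0, 0, 0, 0, 0, 0, 0, 0, 0, 0, 0, 0, 0, 0, 0, 0, 0, 0, 1, 0, 0], [0, 0, 0, 0, 0, 0, 0, 0, 0, 0, 0, 0, 0, 0, 0, 0, 0, 0, 0, 0, 0, 0, 0, 0, 0, 0, 0, 0, 0, 0, 1, 0, 0, 0, 0, 0, 0, 0, 0, 0, 0, 0, 0]),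
    (43, [0, 0, 0, 0, 0, 0, 0, 0, 0, 0, 0, 0, 0, 0, 0, 0, 0, 0, 0, 0, 0, 0, 0, 0, 0, 0, 0, 0, 0, 0, 0, 0, 0, 0, 0, 0, 0, 0, 0, 0, 0, 0, 0, 1, 0], [0, 0, 0, 0, 0, 0, 0, 0, 0, 0, 0, 0, 0, 0, 0, 0, 0, 0, 0, 0, 0, 0, 0, 0, 0, 0, 0, 0, 0, 0, 2, 2, 0, 0, -2, 0, 0, 0, 0, -1, 0, 0, 0]),
    (44, [0, 0, 0, 0, 0, 0, 0, 0, 0, 0, 0, 0, 0, 0, 0, 0, 0, 0, 0, 0, 0, 0, 0, 0, 0, 0, 0, 0, 0, 0, 0, 0, 0, 0, 0, 0, 0, 0, 0, 0, 0, 0, 0, 0, 1], [0, 0, 0, 0, 0, 0, 0, 0, 0, -28, 0, 2, -2, -4, -28, 4, 0, -4, 10, -10, -4, 9, -3, 4, -1, -3, 19, -7, -21, -4, 42, -2, 0, 1, 4, 0, -1, 0, 0, 0, 0, 0, 0])]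

/-- The derived group. -/
def twoT : List (List ℕ × List ℤ) :=
  [([], []),
    ([3], [0, 0, 0, 0, 0, 0, 0, 0, 0, -1, 1, 0, 0, 0, 0, 0, 0, 0, 0, 0, 0, 0, 0, 0, 0, 0, 0, 0, 0, 0, 0, -1, 0, 0, 0, 0, 0, 0, 0, 0, 0, 0, 0, 0, 0]),
    ([4], [0, 0, 0, 0, 0, 0, 0, 0, 0, 0, 0, 1, 0, 0, 0, 0, 0, 0, 0, 0, 0, 0, 0, 0, 0, 0, 0, 0, 0, 0, 0, 0, 0, 0, 0, 0, 0, 0, 0, 0, 0, 0, 0, 0, 0]),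
    ([5], [0, 0, 0, 0, 0, 0, 0, 0, 0, 0, 0, 0, 0, 0, 0, 1, 0, 0, 0, 0, 0, 0, 0, 0, 0, 0, -1, 0, 0, 0, 0, 1, 0, 0, 0, 0, 0, 0, 0, 0, 0, 0, 0, 0, 0]),
    ([6], [0, 0, 0, 0, 0, 0, 0, 0, 0, 1, 0, 0, 0, 0, 0, -1, 0, 0, 0, 0, 0, 0, 0, 0, 0, 0, 1, 0, 0, 0, 0, -1, 0, 0, 0, 0, 0, 0, 0, 0, 0, 0, 0, 0, 0]),
    ([7], [0, 0, 0, 0, 0, 0, 0, 0, 0, 0, 0, 0, 0, 0, 0, 0, 0, 0, 0, 0, 0, 0, 0, 0, 0, 0, 1, 0, 0, 0, 0, -1, 0, 0, 0, 0, 0, 0, 0, 0, 0, 0, 0, 0, 0]),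
    ([8], [0, 0, 0, 0, 0, 0, 0, 0, 0, 0, 0, 0, 0, 0, 0, 0, 0, 0, 0, 0, 0, 0, 0, 0, 0, 0, 0, 0, 0, 0, 0, 1, 0, 0, 0, 0, 0, 0, 0, 0, 0, 0, 0, 0, 0]),
    ([3, 4], [0, 0, 0, 0, 0, 0, 0, 0, 0, -1, 1, 1, 0, 0, 0, 0, 0, 0, 0, 0, 0, 0, 0, 0, 0, 0, 0, 0, 0, 0, 0, -1, 0, 0, 0, 0, 0, 0, 0, 0, 0, 0, 0, 0, 0]),
    ([3, 5], [0, 0, 0, 0, 0, 0, 0, 0, 0, -1, 1, 0, 0, 0, 0, 1, 0, 0, 0, 0, 0, 0, 0, 0, 0, 0, -1, 0, 0, 0, 0, 0, 0, 0, 0, 0, 0, 0, 0, 0, 0, 0, 0, 0, 0]),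
    ([3, 6], [0, 0, 0, 0, 0, 0, 0, 0, 0, 0, 1, 0, 0, 0, 0, -1, 0, 0, 0, 0, 0, 0, 0, 0, 0, 0, 1, 0, 0, 0, 0, -2, 0, 0, 0, 0, 0, 0, 0, 0, 0, 0, 0, 0, 0]),
    ([3, 7], [0, 0, 0, 0, 0, 0, 0, 0, 0, -1, 1, 0, 0, 0, 0, 0, 0, 0, 0, 0, 0, 0, 0, 0, 0, 0, 1, 0, 0, 0, 0, -2, 0, 0, 0, 0, 0, 0, 0, 0, 0, 0, 0, 0, 0]),
    ([3, 8], [0, 0, 0, 0, 0, 0, 0, 0, 0, -1, 1, 0, 0, 0, 0, 0, 0, 0, 0, 0, 0, 0, 0, 0, 0, 0, 0, 0, 0, 0, 0, 0, 0, 0, 0, 0, 0, 0, 0, 0, 0, 0, 0, 0, 0]),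
    ([4, 5], [0, 0, 0, 0, 0, 0, 0, 0, 0, 0, 0, 1, 0, 0, 0, 1, 0, 0, 0, 0, 0, 0, 0, 0, 0, 0, -1, 0, 0, 0, 0, 1, 0, 0, 0, 0, 0, 0, 0, 0, 0, 0, 0, 0, 0]),
    ([4, 6], [0, 0, 0, 0, 0, 0, 0, 0, 0, 1, 0, 1, 0, 0, 0, -1, 0, 0, 0, 0, 0, 0, 0, 0, 0, 0, 1, 0, 0, 0, 0, -1, 0, 0, 0, 0, 0, 0, 0, 0, 0, 0, 0, 0, 0]),
    ([4, 7], [0, 0, 0, 0, 0, 0, 0, 0, 0, 0, 0, 1, 0, 0, 0, 0, 0, 0, 0, 0, 0, 0, 0, 0, 0, 0, 1, 0, 0, 0, 0, -1, 0, 0, 0, 0, 0, 0, 0, 0, 0, 0, 0, 0, 0]),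
    ([4, 8], [0, 0, 0, 0, 0, 0, 0, 0, 0, 0, 0, 1, 0, 0, 0, 0, 0, 0, 0, 0, 0, 0, 0, 0, 0, 0, 0, 0, 0, 0, 0, 1, 0, 0, 0, 0, 0, 0, 0, 0, 0, 0, 0, 0, 0]),
    ([5, 6], [0, 0, 0, 0, 0, 0, 0, 0, 0, 1, 0, 0, 0, 0, 0, 0, 0, 0, 0, 0, 0, 0, 0, 0, 0, 0, 0, 0, 0, 0, 0, 0, 0, 0, 0, 0, 0, 0, 0, 0, 0, 0, 0, 0, 0]),
    ([5, 7], [0, 0, 0, 0, 0, 0, 0, 0, 0, 0, 0, 0, 0, 0, 0, 1, 0, 0, 0, 0, 0, 0, 0, 0, 0, 0, 0, 0, 0, 0, 0, 0, 0, 0, 0, 0, 0, 0, 0, 0, 0, 0, 0, 0, 0]),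
    ([5, 8], [0, 0, 0, 0, 0, 0, 0, 0, 0, 0, 0, 0, 0, 0, 0, 1, 0, 0, 0, 0, 0, 0, 0, 0, 0, 0, -1, 0, 0, 0, 0, 2, 0, 0, 0, 0, 0, 0, 0, 0, 0, 0, 0, 0, 0]),
    ([6, 7], [0, 0, 0, 0, 0, 0, 0, 0, 0, 1, 0, 0, 0, 0, 0, -1, 0, 0, 0, 0, 0, 0, 0, 0, 0, 0, 2, 0, 0, 0, 0, -2, 0, 0, 0, 0, 0, 0, 0, 0, 0, 0, 0, 0, 0]),
    ([6, 8], [0, 0, 0, 0, 0, 0, 0, 0, 0, 1, 0, 0, 0, 0, 0, -1, 0, 0, 0, 0, 0, 0, 0, 0, 0, 0, 1, 0, 0, 0, 0, 0, 0, 0, 0, 0, 0, 0, 0, 0, 0, 0, 0, 0, 0]),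
    ([7, 8], [0, 0, 0, 0, 0, 0, 0, 0, 0, 0, 0, 0, 0, 0, 0, 0, 0, 0, 0, 0, 0, 0, 0, 0, 0, 0, 1, 0, 0, 0, 0, 0, 0, 0, 0, 0, 0, 0, 0, 0, 0, 0, 0, 0, 0]),
    ([3, 4, 5], [0, 0, 0, 0, 0, 0, 0, 0, 0, -1, 1, 1, 0, 0, 0, 1, 0, 0, 0, 0, 0, 0, 0, 0, 0, 0, -1, 0, 0, 0, 0, 0, 0, 0, 0, 0, 0, 0, 0, 0, 0, 0, 0, 0, 0]),
    ([3, 4, 6], [0, 0, 0, 0, 0, 0, 0, 0, 0, 0, 1, 1, 0, 0, 0, -1, 0, 0, 0, 0, 0, 0, 0, 0, 0, 0, 1, 0, 0, 0, 0, -2, 0, 0, 0, 0, 0, 0, 0, 0, 0, 0, 0, 0, 0]),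
    ([3, 4, 7], [0, 0, 0, 0, 0, 0, 0, 0, 0, -1, 1, 1, 0, 0, 0, 0, 0, 0, 0, 0, 0, 0, 0, 0, 0, 0, 1, 0, 0, 0, 0, -2, 0, 0, 0, 0, 0, 0, 0, 0, 0, 0, 0, 0, 0]),
    ([3, 4, 8], [0, 0, 0, 0, 0, 0, 0, 0, 0, -1, 1, 1, 0, 0, 0, 0, 0, 0, 0, 0, 0, 0, 0, 0, 0, 0, 0, 0, 0, 0, 0, 0, 0, 0, 0, 0, 0, 0, 0, 0, 0, 0, 0, 0, 0]),
    ([3, 5, 6], [0, 0, 0, 0, 0, 0, 0, 0, 0, 0, 1, 0, 0, 0, 0, 0, 0, 0, 0, 0, 0, 0, 0, 0, 0, 0, 0, 0, 0, 0, 0, -1, 0, 0, 0, 0, 0, 0, 0, 0, 0, 0, 0, 0, 0]),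
    ([3, 5, 7], [0, 0, 0, 0, 0, 0, 0, 0, 0, -1, 1, 0, 0, 0, 0, 1, 0, 0, 0, 0, 0, 0, 0, 0, 0, 0, 0, 0, 0, 0, 0, -1, 0, 0, 0, 0, 0, 0, 0, 0, 0, 0, 0, 0, 0]),
    ([3, 5, 8], [0, 0, 0, 0, 0, 0, 0, 0, 0, -1, 1, 0, 0, 0, 0, 1, 0, 0, 0, 0, 0, 0, 0, 0, 0, 0, -1, 0, 0, 0, 0, 1, 0, 0, 0, 0, 0, 0, 0, 0, 0, 0, 0, 0, 0]),
    ([3, 6, 7], [0, 0, 0, 0, 0, 0, 0, 0, 0, 0, 1, 0, 0, 0, 0, -1, 0, 0, 0, 0, 0, 0, 0, 0, 0, 0, 2, 0, 0, 0, 0, -3, 0, 0, 0, 0, 0, 0, 0, 0, 0, 0, 0, 0, 0]),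
    ([3, 6, 8], [0, 0, 0, 0, 0, 0, 0, 0, 0, 0, 1, 0, 0, 0, 0, -1, 0, 0, 0, 0, 0, 0, 0, 0, 0, 0, 1, 0, 0, 0, 0, -1, 0, 0, 0, 0, 0, 0, 0, 0, 0, 0, 0, 0, 0]),
    ([3, 7, 8], [0, 0, 0, 0, 0, 0, 0, 0, 0, -1, 1, 0, 0, 0, 0, 0, 0, 0, 0, 0, 0, 0, 0, 0, 0, 0, 1, 0, 0, 0, 0, -1, 0, 0, 0, 0, 0, 0, 0, 0, 0, 0, 0, 0, 0]),
    ([4, 5, 6], [0, 0, 0, 0, 0, 0, 0, 0, 0, 1, 0, 1, 0, 0, 0, 0, 0, 0, 0, 0, 0, 0, 0, 0, 0, 0, 0, 0, 0, 0, 0, 0, 0, 0, 0, 0, 0, 0, 0, 0, 0, 0, 0, 0, 0]),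
    ([4, 5, 7], [0, 0, 0, 0, 0, 0, 0, 0, 0, 0, 0, 1, 0, 0, 0, 1, 0, 0, 0, 0, 0, 0, 0, 0, 0, 0, 0, 0, 0, 0, 0, 0, 0, 0, 0, 0, 0, 0, 0, 0, 0, 0, 0, 0, 0]),
    ([4, 5, 8], [0, 0, 0, 0, 0, 0, 0, 0, 0, 0, 0, 1, 0, 0, 0, 1, 0, 0, 0, 0, 0, 0, 0, 0, 0, 0, -1, 0, 0, 0, 0, 2, 0, 0, 0, 0, 0, 0, 0, 0, 0, 0, 0, 0, 0]),
    ([4, 6, 7], [0, 0, 0, 0, 0, 0, 0, 0, 0, 1, 0, 1, 0, 0, 0, -1, 0, 0, 0, 0, 0, 0, 0, 0, 0, 0, 2, 0, 0, 0, 0, -2, 0, 0, 0, 0, 0, 0, 0, 0, 0, 0, 0, 0, 0]),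
    ([4, 6, 8], [0, 0, 0, 0, 0, 0, 0, 0, 0, 1, 0, 1, 0, 0, 0, -1, 0, 0, 0, 0, 0, 0, 0, 0, 0, 0, 1, 0, 0, 0, 0, 0, 0, 0, 0, 0, 0, 0, 0, 0, 0, 0, 0, 0, 0]),
    ([4, 7, 8], [0, 0, 0, 0, 0, 0, 0, 0, 0, 0, 0, 1, 0, 0, 0, 0, 0, 0, 0, 0, 0, 0, 0, 0, 0, 0, 1, 0, 0, 0, 0, 0, 0, 0, 0, 0, 0, 0, 0, 0, 0, 0, 0, 0, 0]),
    ([5, 6, 7], [0, 0, 0, 0, 0, 0, 0, 0, 0, 1, 0, 0, 0, 0, 0, 0, 0, 0, 0, 0, 0, 0, 0, 0, 0, 0, 1, 0, 0, 0, 0, -1, 0, 0, 0, 0, 0, 0, 0, 0, 0, 0, 0, 0, 0]),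
    ([5, 6, 8], [0, 0, 0, 0, 0, 0, 0, 0, 0, 1, 0, 0, 0, 0, 0, 0, 0, 0, 0, 0, 0, 0, 0, 0, 0, 0, 0, 0, 0, 0, 0, 1, 0, 0, 0, 0, 0, 0, 0, 0, 0, 0, 0, 0, 0]),
    ([5, 7, 8], [0, 0, 0, 0, 0, 0, 0, 0, 0, 0, 0, 0, 0, 0, 0, 1, 0, 0, 0, 0, 0, 0, 0, 0, 0, 0, 0, 0, 0, 0, 0, 1, 0, 0, 0, 0, 0, 0, 0, 0, 0, 0, 0, 0, 0]),
    ([6, 7, 8], [0, 0, 0, 0, 0, 0, 0, 0, 0, 1, 0, 0, 0, 0, 0, -1, 0, 0, 0, 0, 0, 0, 0, 0, 0, 0, 2, 0, 0, 0, 0, -1, 0, 0, 0, 0, 0, 0, 0, 0, 0, 0, 0, 0, 0]),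
    ([3, 4, 5, 6], [0, 0, 0, 0, 0, 0, 0, 0, 0, 0, 1, 1, 0, 0, 0, 0, 0, 0, 0, 0, 0, 0, 0, 0, 0, 0, 0, 0, 0, 0, 0, -1, 0, 0, 0, 0, 0, 0, 0, 0, 0, 0, 0, 0, 0]),
    ([3, 4, 5, 7], [0, 0, 0, 0, 0, 0, 0, 0, 0, -1, 1, 1, 0, 0, 0, 1, 0, 0, 0, 0, 0, 0, 0, 0, 0, 0, 0, 0, 0, 0, 0, -1, 0, 0, 0, 0, 0, 0, 0, 0, 0, 0, 0, 0, 0]),
    ([3, 4, 5, 8], [0, 0, 0, 0, 0, 0, 0, 0, 0, -1, 1, 1, 0, 0, 0, 1, 0, 0, 0, 0, 0, 0, 0, 0, 0, 0, -1, 0, 0, 0, 0, 1, 0, 0, 0, 0, 0, 0, 0, 0, 0, 0, 0, 0, 0]),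
    ([3, 4, 6, 7], [0, 0, 0, 0, 0, 0, 0, 0, 0, 0, 1, 1, 0, 0, 0, -1, 0, 0, 0, 0, 0, 0, 0, 0, 0, 0, 2, 0, 0, 0, 0, -3, 0, 0, 0, 0, 0, 0, 0, 0, 0, 0, 0, 0, 0]),
    ([3, 4, 6, 8], [0, 0, 0, 0, 0, 0, 0, 0, 0, 0, 1, 1, 0, 0, 0, -1, 0, 0, 0, 0, 0, 0, 0, 0, 0, 0, 1, 0, 0, 0, 0, -1, 0, 0, 0, 0, 0, 0, 0, 0, 0, 0, 0, 0, 0]),
    ([3, 4, 7, 8], [0, 0, 0, 0, 0, 0, 0, 0, 0, -1, 1, 1, 0, 0, 0, 0, 0, 0, 0, 0, 0, 0, 0, 0, 0, 0, 1, 0, 0, 0, 0, -1, 0, 0, 0, 0, 0, 0, 0, 0, 0, 0, 0, 0, 0]),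
    ([3, 5, 6, 7], [0, 0, 0, 0, 0, 0, 0, 0, 0, 0, 1, 0, 0, 0, 0, 0, 0, 0, 0, 0, 0, 0, 0, 0, 0, 0, 1, 0, 0, 0, 0, -2, 0, 0, 0, 0, 0, 0, 0, 0, 0, 0, 0, 0, 0]),
    ([3, 5, 6, 8], [0, 0, 0, 0, 0, 0, 0, 0, 0, 0, 1, 0, 0, 0, 0, 0, 0, 0, 0, 0, 0, 0, 0, 0, 0, 0, 0, 0, 0, 0, 0, 0, 0, 0, 0, 0, 0, 0, 0, 0, 0, 0, 0, 0, 0]),
    ([3, 5, 7, 8], [0, 0, 0, 0, 0, 0, 0, 0, 0, -1, 1, 0, 0, 0, 0, 1, 0, 0, 0, 0, 0, 0, 0, 0, 0, 0, 0, 0, 0, 0, 0, 0, 0, 0, 0, 0, 0, 0, 0, 0, 0, 0, 0, 0, 0]),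
    ([3, 6, 7, 8], [0, 0, 0, 0, 0, 0, 0, 0, 0, 0, 1, 0, 0, 0, 0, -1, 0, 0, 0, 0, 0, 0, 0, 0, 0, 0, 2, 0, 0, 0, 0, -2, 0, 0, 0, 0, 0, 0, 0, 0, 0, 0, 0, 0, 0]),
    ([4, 5, 6, 7], [0, 0, 0, 0, 0, 0, 0, 0, 0, 1, 0, 1, 0, 0, 0, 0, 0, 0, 0, 0, 0, 0, 0, 0, 0, 0, 1, 0, 0, 0, 0, -1, 0, 0, 0, 0, 0, 0, 0, 0, 0, 0, 0, 0, 0]),
    ([4, 5, 6, 8], [0, 0, 0, 0, 0, 0, 0, 0, 0, 1, 0, 1, 0, 0, 0, 0, 0, 0, 0, 0, 0, 0, 0, 0, 0, 0, 0, 0, 0, 0, 0, 1, 0, 0, 0, 0, 0, 0, 0, 0, 0, 0, 0, 0, 0]),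
    ([4, 5, 7, 8], [0, 0, 0, 0, 0, 0, 0, 0, 0, 0, 0, 1, 0, 0, 0, 1, 0, 0, 0, 0, 0, 0, 0, 0, 0, 0, 0, 0, 0, 0, 0, 1, 0, 0, 0, 0, 0, 0, 0, 0, 0, 0, 0, 0, 0]),
    ([4, 6, 7, 8], [0, 0, 0, 0, 0, 0, 0, 0, 0, 1, 0, 1, 0, 0, 0, -1, 0, 0, 0, 0, 0, 0, 0, 0, 0, 0, 2, 0, 0, 0, 0, -1, 0, 0, 0, 0, 0, 0, 0, 0, 0, 0, 0, 0, 0]),
    ([5, 6, 7, 8], [0, 0, 0, 0, 0, 0, 0, 0, 0, 1, 0, 0, 0, 0, 0, 0, 0, 0, 0, 0, 0, 0, 0, 0, 0, 0, 1, 0, 0, 0, 0, 0, 0, 0, 0, 0, 0, 0, 0, 0, 0, 0, 0, 0, 0]),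
    ([3, 4, 5, 6, 7], [0, 0, 0, 0, 0, 0, 0, 0, 0, 0, 1, 1, 0, 0, 0, 0, 0, 0, 0, 0, 0, 0, 0, 0, 0, 0, 1, 0, 0, 0, 0, -2, 0, 0, 0, 0, 0, 0, 0, 0, 0, 0, 0, 0, 0]),
    ([3, 4, 5, 6, 8], [0, 0, 0, 0, 0, 0, 0, 0, 0, 0, 1, 1, 0, 0, 0, 0, 0, 0, 0, 0, 0, 0, 0, 0, 0, 0, 0, 0, 0, 0, 0, 0, 0, 0, 0, 0, 0, 0, 0, 0, 0, 0, 0, 0, 0]),
    ([3, 4, 5, 7, 8], [0, 0, 0, 0, 0, 0, 0, 0, 0, -1, 1, 1, 0, 0, 0, 1, 0, 0, 0, 0, 0, 0, 0, 0, 0, 0, 0, 0, 0, 0, 0, 0, 0, 0, 0, 0, 0, 0, 0, 0, 0, 0, 0, 0, 0]),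
    ([3, 4, 6, 7, 8], [0, 0, 0, 0, 0, 0, 0, 0, 0, 0, 1, 1, 0, 0, 0, -1, 0, 0, 0, 0, 0, 0, 0, 0, 0, 0, 2, 0, 0, 0, 0, -2, 0, 0, 0, 0, 0, 0, 0, 0, 0, 0, 0, 0, 0]),
    ([3, 5, 6, 7, 8], [0, 0, 0, 0, 0, 0, 0, 0, 0, 0, 1, 0, 0, 0, 0, 0, 0, 0, 0, 0, 0, 0, 0, 0, 0, 0, 1, 0, 0, 0, 0, -1, 0, 0, 0, 0, 0, 0, 0, 0, 0, 0, 0, 0, 0]),
    ([4, 5, 6, 7, 8], [0, 0, 0, 0, 0, 0, 0, 0, 0, 1, 0, 1, 0, 0, 0, 0, 0, 0, 0, 0, 0, 0, 0, 0, 0, 0, 1, 0, 0, 0, 0, 0, 0, 0, 0, 0, 0, 0, 0, 0, 0, 0, 0, 0, 0]),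
    ([3, 4, 5, 6, 7, 8], [0, 0, 0, 0, 0, 0, 0, 0, 0, 0, 1, 1, 0, 0, 0, 0, 0, 0, 0, 0, 0, 0, 0, 0, 0, 0, 1, 0, 0, 0, 0, -1, 0, 0, 0, 0, 0, 0, 0, 0, 0, 0, 0, 0, 0])]

/-- Part of the elements. -/
def twoElems0 : List (List ℕ) :=
  [[], [8], [7], [7, 8], [6], [6, 8], [6, 7], [6, 7, 8],
    [5], [5, 8], [5, 7], [5, 7, 8], [5, 6], [5, 6, 8], [5, 6, 7], [5, 6, 7, 8],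
    [4], [4, 8], [4, 7], [4, 7, 8], [4, 6], [4, 6, 8], [4, 6, 7], [4, 6, 7, 8],
    [4, 5], [4, 5, 8], [4, 5, 7], [4, 5, 7, 8], [4, 5, 6], [4, 5, 6, 8], [4, 5, 6, 7], [4, 5, 6, 7, 8],
    [3], [3, 8], [3, 7], [3, 7, 8], [3, 6], [3, 6, 8], [3, 6, 7], [3, 6, 7, 8],
    [3, 5], [3, 5, 8], [3, 5, 7], [3, 5, 7, 8], [3, 5, 6], [3, 5, 6, 8], [3, 5, 6, 7], [3, 5, 6, 7, 8],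
    [3, 4], [3, 4, 8], [3, 4, 7], [3, 4, 7, 8], [3, 4, 6], [3, 4, 6, 8], [3, 4, 6, 7], [3, 4, 6, 7, 8],
    [3, 4, 5], [3, 4, 5, 8], [3, 4, 5, 7], [3, 4, 5, 7, 8], [3, 4, 5, 6], [3, 4, 5, 6, 8], [3, 4, 5, 6, 7], [3, 4, 5, 6, 7, 8],
    [2], [2, 8], [2, 7], [2, 7, 8], [2, 6], [2, 6, 8], [2, 6, 7], [2, 6, 7, 8],
    [2, 5], [2, 5, 8], [2, 5, 7], [2, 5, 7, 8], [2, 5, 6], [2, 5, 6, 8], [2, 5, 6, 7], [2, 5, 6, 7, 8],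
    [2, 4], [2, 4, 8], [2, 4, 7], [2, 4, 7, 8], [2, 4, 6], [2, 4, 6, 8], [2, 4, 6, 7], [2, 4, 6, 7, 8],
    [2, 4, 5], [2, 4, 5, 8], [2, 4, 5, 7], [2, 4, 5, 7, 8], [2, 4, 5, 6], [2, 4, 5, 6, 8], [2, 4, 5, 6, 7], [2, 4, 5, 6, 7, 8],
    [2, 3], [2, 3, 8], [2, 3, 7], [2, 3, 7, 8], [2, 3, 6], [2, 3, 6, 8], [2, 3, 6, 7], [2, 3, 6, 7, 8],
    [2, 3, 5], [2, 3, 5, 8], [2, 3, 5, 7], [2, 3, 5, 7, 8], [2, 3, 5, 6], [2, 3, 5, 6, 8], [2, 3, 5, 6, 7], [2, 3, 5, 6, 7, 8],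
    [2, 3, 4], [2, 3, 4, 8], [2, 3, 4, 7], [2, 3, 4, 7, 8], [2, 3, 4, 6], [2, 3, 4, 6, 8], [2, 3, 4, 6, 7], [2, 3, 4, 6, 7, 8],
    [2, 3, 4, 5], [2, 3, 4, 5, 8], [2, 3, 4, 5, 7], [2, 3, 4, 5, 7, 8], [2, 3, 4, 5, 6], [2, 3, 4, 5, 6, 8], [2, 3, 4, 5, 6, 7], [2, 3, 4, 5, 6, 7, 8]]

/-- Part of the elements. -/
def twoElems1 : List (List ℕ) :=
  [[1], [1, 8], [1, 7], [1, 7, 8], [1, 6], [1, 6, 8], [1, 6, 7], [1, 6, 7, 8],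
    [1, 5], [1, 5, 8], [1, 5, 7], [1, 5, 7, 8], [1, 5, 6], [1, 5, 6, 8], [1, 5, 6, 7], [1, 5, 6, 7, 8],
    [1, 4], [1, 4, 8], [1, 4, 7], [1, 4, 7, 8], [1, 4, 6], [1, 4, 6, 8], [1, 4, 6, 7], [1, 4, 6, 7, 8],
    [1, 4, 5], [1, 4, 5, 8], [1, 4, 5, 7], [1, 4, 5, 7, 8], [1, 4, 5, 6], [1, 4, 5, 6, 8], [1, 4, 5, 6, 7], [1, 4, 5, 6, 7, 8],
    [1, 3], [1, 3, 8], [1, 3, 7], [1, 3, 7, 8], [1, 3, 6], [1, 3, 6, 8], [1, 3, 6, 7], [1, 3, 6, 7, 8],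
    [1, 3, 5], [1, 3, 5, 8], [1, 3, 5, 7], [1, 3, 5, 7, 8], [1, 3, 5, 6], [1, 3, 5, 6, 8], [1, 3, 5, 6, 7], [1, 3, 5, 6, 7, 8],
    [1, 3, 4], [1, 3, 4, 8], [1, 3, 4, 7], [1, 3, 4, 7, 8], [1, 3, 4, 6], [1, 3, 4, 6, 8], [1, 3, 4, 6, 7], [1, 3, 4, 6, 7, 8],
    [1, 3, 4, 5], [1, 3, 4, 5, 8], [1, 3, 4, 5, 7], [1, 3, 4, 5, 7, 8], [1, 3, 4, 5, 6], [1, 3, 4, 5, 6, 8], [1, 3, 4, 5, 6, 7], [1, 3, 4, 5, 6, 7, 8],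
    [1, 2], [1, 2, 8], [1, 2, 7], [1, 2, 7, 8], [1, 2, 6], [1, 2, 6, 8], [1, 2, 6, 7], [1, 2, 6, 7, 8],
    [1, 2, 5], [1, 2, 5, 8], [1, 2, 5, 7], [1, 2, 5, 7, 8], [1, 2, 5, 6], [1, 2, 5, 6, 8], [1, 2, 5, 6, 7], [1, 2, 5, 6, 7, 8],
    [1, 2, 4], [1, 2, 4, 8], [1, 2, 4, 7], [1, 2, 4, 7, 8], [1, 2, 4, 6], [1, 2, 4, 6, 8], [1, 2, 4, 6, 7], [1, 2, 4, 6, 7, 8],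
    [1, 2, 4, 5], [1, 2, 4, 5, 8], [1, 2, 4, 5, 7], [1, 2, 4, 5, 7, 8], [1, 2, 4, 5, 6], [1, 2, 4, 5, 6, 8], [1, 2, 4, 5, 6, 7], [1, 2, 4, 5, 6, 7, 8],
    [1, 2, 3], [1, 2, 3, 8], [1, 2, 3, 7], [1, 2, 3, 7, 8], [1, 2, 3, 6], [1, 2, 3, 6, 8], [1, 2, 3, 6, 7], [1, 2, 3, 6, 7, 8],
    [1, 2, 3, 5], [1, 2, 3, 5, 8], [1, 2, 3, 5, 7], [1, 2, 3, 5, 7, 8], [1, 2, 3, 5, 6], [1, 2, 3, 5, 6, 8], [1, 2, 3, 5, 6, 7], [1, 2, 3, 5, 6, 7, 8],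
    [1, 2, 3, 4], [1, 2, 3, 4, 8], [1, 2, 3, 4, 7], [1, 2, 3, 4, 7, 8], [1, 2, 3, 4, 6], [1, 2, 3, 4, 6, 8], [1, 2, 3, 4, 6, 7], [1, 2, 3, 4, 6, 7, 8],
    [1, 2, 3, 4, 5], [1, 2, 3, 4, 5, 8], [1, 2, 3, 4, 5, 7], [1, 2, 3, 4, 5, 7, 8], [1, 2, 3, 4, 5, 6], [1, 2, 3, 4, 5, 6, 8], [1, 2, 3, 4, 5, 6, 7], [1, 2, 3, 4, 5, 6, 7, 8]]

/-- Part of the elements. -/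
def twoElems2 : List (List ℕ) :=
  [[0], [0, 8], [0, 7], [0, 7, 8], [0, 6], [0, 6, 8], [0, 6, 7], [0, 6, 7, 8],
    [0, 5], [0, 5, 8], [0, 5, 7], [0, 5, 7, 8], [0, 5, 6], [0, 5, 6, 8], [0, 5, 6, 7], [0, 5, 6, 7, 8],
    [0, 4], [0, 4, 8], [0, 4, 7], [0, 4, 7, 8], [0, 4, 6], [0, 4, 6, 8], [0, 4, 6, 7], [0, 4, 6, 7, 8],
    [0, 4, 5], [0, 4, 5, 8], [0, 4, 5, 7], [0, 4, 5, 7, 8], [0, 4, 5, 6], [0, 4, 5, 6, 8], [0, 4, 5, 6, 7], [0, 4, 5, 6, 7, 8],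
    [0, 3], [0, 3, 8], [0, 3, 7], [0, 3, 7, 8], [0, 3, 6], [0, 3, 6, 8], [0, 3, 6, 7], [0, 3, 6, 7, 8],
    [0, 3, 5], [0, 3, 5, 8], [0, 3, 5, 7], [0, 3, 5, 7, 8], [0, 3, 5, 6], [0, 3, 5, 6, 8], [0, 3, 5, 6, 7], [0, 3, 5, 6, 7, 8],
    [0, 3, 4], [0, 3, 4, 8], [0, 3, 4, 7], [0, 3, 4, 7, 8], [0, 3, 4, 6], [0, 3, 4, 6, 8], [0, 3, 4, 6, 7], [0, 3, 4, 6, 7, 8],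
    [0, 3, 4, 5], [0, 3, 4, 5, 8], [0, 3, 4, 5, 7], [0, 3, 4, 5, 7, 8], [0, 3, 4, 5, 6], [0, 3, 4, 5, 6, 8], [0, 3, 4, 5, 6, 7], [0, 3, 4, 5, 6, 7, 8],
    [0, 2], [0, 2, 8], [0, 2, 7], [0, 2, 7, 8], [0, 2, 6], [0, 2, 6, 8], [0, 2, 6, 7], [0, 2, 6, 7, 8],
    [0, 2, 5], [0, 2, 5, 8], [0, 2, 5, 7], [0, 2, 5, 7, 8], [0, 2, 5, 6], [0, 2, 5, 6, 8], [0, 2, 5, 6, 7], [0, 2, 5, 6, 7, 8],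
    [0, 2, 4], [0, 2, 4, 8], [0, 2, 4, 7], [0, 2, 4, 7, 8], [0, 2, 4, 6], [0, 2, 4, 6, 8], [0, 2, 4, 6, 7], [0, 2, 4, 6, 7, 8],
    [0, 2, 4, 5], [0, 2, 4, 5, 8], [0, 2, 4, 5, 7], [0, 2, 4, 5, 7, 8], [0, 2, 4, 5, 6], [0, 2, 4, 5, 6, 8], [0, 2, 4, 5, 6, 7], [0, 2, 4, 5, 6, 7, 8],
    [0, 2, 3], [0, 2, 3, 8], [0, 2, 3, 7], [0, 2, 3, 7, 8], [0, 2, 3, 6], [0, 2, 3, 6, 8], [0, 2, 3, 6, 7], [0, 2, 3, 6, 7, 8],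
    [0, 2, 3, 5], [0, 2, 3, 5, 8], [0, 2, 3, 5, 7], [0, 2, 3, 5, 7, 8], [0, 2, 3, 5, 6], [0, 2, 3, 5, 6, 8], [0, 2, 3, 5, 6, 7], [0, 2, 3, 5, 6, 7, 8],
    [0, 2, 3, 4], [0, 2, 3, 4, 8], [0, 2, 3, 4, 7], [0, 2, 3, 4, 7, 8], [0, 2, 3, 4, 6], [0, 2, 3, 4, 6, 8], [0, 2, 3, 4, 6, 7], [0, 2, 3, 4, 6, 7, 8],
    [0, 2, 3, 4, 5], [0, 2, 3, 4, 5, 8], [0, 2, 3, 4, 5, 7], [0, 2, 3, 4, 5, 7, 8], [0, 2, 3, 4, 5, 6], [0, 2, 3, 4, 5, 6, 8], [0, 2, 3, 4, 5, 6, 7], [0, 2, 3, 4, 5, 6, 7, 8]]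

/-- Part of the elements. -/
def twoElems3 : List (List ℕ) :=
  [[0, 1], [0, 1, 8], [0, 1, 7], [0, 1, 7, 8], [0, 1, 6], [0, 1, 6, 8], [0, 1, 6, 7], [0, 1, 6, 7, 8],
    [0, 1, 5], [0, 1, 5, 8], [0, 1, 5, 7], [0, 1, 5, 7, 8], [0, 1, 5, 6], [0, 1, 5, 6, 8], [0, 1, 5, 6, 7], [0, 1, 5, 6, 7, 8],
    [0, 1, 4], [0, 1, 4, 8], [0, 1, 4, 7], [0, 1, 4, 7, 8], [0, 1, 4, 6], [0, 1, 4, 6, 8], [0, 1, 4, 6, 7], [0, 1, 4, 6, 7, 8],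
    [0, 1, 4, 5], [0, 1, 4, 5, 8], [0, 1, 4, 5, 7], [0, 1, 4, 5, 7, 8], [0, 1, 4, 5, 6], [0, 1, 4, 5, 6, 8], [0, 1, 4, 5, 6, 7], [0, 1, 4, 5, 6, 7, 8],
    [0, 1, 3], [0, 1, 3, 8], [0, 1, 3, 7], [0, 1, 3, 7, 8], [0, 1, 3, 6], [0, 1, 3, 6, 8], [0, 1, 3, 6, 7], [0, 1, 3, 6, 7, 8],
    [0, 1, 3, 5], [0, 1, 3, 5, 8], [0, 1, 3, 5, 7], [0, 1, 3, 5, 7, 8], [0, 1, 3, 5, 6], [0, 1, 3, 5, 6, 8], [0, 1, 3, 5, 6, 7], [0, 1, 3, 5, 6, 7, 8],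
    [0, 1, 3, 4], [0, 1, 3, 4, 8], [0, 1, 3, 4, 7], [0, 1, 3, 4, 7, 8], [0, 1, 3, 4, 6], [0, 1, 3, 4, 6, 8], [0, 1, 3, 4, 6, 7], [0, 1, 3, 4, 6, 7, 8],
    [0, 1, 3, 4, 5], [0, 1, 3, 4, 5, 8], [0, 1, 3, 4, 5, 7], [0, 1, 3, 4, 5, 7, 8], [0, 1, 3, 4, 5, 6], [0, 1, 3, 4, 5, 6, 8], [0, 1, 3, 4, 5, 6, 7], [0, 1, 3, 4, 5, 6, 7, 8],
    [0, 1, 2], [0, 1, 2, 8], [0, 1, 2, 7], [0, 1, 2, 7, 8], [0, 1, 2, 6], [0, 1, 2, 6, 8], [0, 1, 2, 6, 7], [0, 1, 2, 6, 7, 8],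
    [0, 1, 2, 5], [0, 1, 2, 5, 8], [0, 1, 2, 5, 7], [0, 1, 2, 5, 7, 8], [0, 1, 2, 5, 6], [0, 1, 2, 5, 6, 8], [0, 1, 2, 5, 6, 7], [0, 1, 2, 5, 6, 7, 8],
    [0, 1, 2, 4], [0, 1, 2, 4, 8], [0, 1, 2, 4, 7], [0, 1, 2, 4, 7, 8], [0, 1, 2, 4, 6], [0, 1, 2, 4, 6, 8], [0, 1, 2, 4, 6, 7], [0, 1, 2, 4, 6, 7, 8],
    [0, 1, 2, 4, 5], [0, 1, 2, 4, 5, 8], [0, 1, 2, 4, 5, 7], [0, 1, 2, 4, 5, 7, 8], [0, 1, 2, 4, 5, 6], [0, 1, 2, 4, 5, 6, 8], [0, 1, 2, 4, 5, 6, 7], [0, 1, 2, 4, 5, 6, 7, 8],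
    [0, 1, 2, 3], [0, 1, 2, 3, 8], [0, 1, 2, 3, 7], [0, 1, 2, 3, 7, 8], [0, 1, 2, 3, 6], [0, 1, 2, 3, 6, 8], [0, 1, 2, 3, 6, 7], [0, 1, 2, 3, 6, 7, 8],
    [0, 1, 2, 3, 5], [0, 1, 2, 3, 5, 8], [0, 1, 2, 3, 5, 7], [0, 1, 2, 3, 5, 7, 8], [0, 1, 2, 3, 5, 6], [0, 1, 2, 3, 5, 6, 8], [0, 1, 2, 3, 5, 6, 7], [0, 1, 2, 3, 5, 6, 7, 8],
    [0, 1, 2, 3, 4], [0, 1, 2, 3, 4, 8], [0, 1, 2, 3, 4, 7], [0, 1, 2, 3, 4, 7, 8], [0, 1, 2, 3, 4, 6], [0, 1, 2, 3, 4, 6, 8], [0, 1, 2, 3, 4, 6, 7], [0, 1, 2, 3, 4, 6, 7, 8],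
    [0, 1, 2, 3, 4, 5], [0, 1, 2, 3, 4, 5, 8], [0, 1, 2, 3, 4, 5, 7], [0, 1, 2, 3, 4, 5, 7, 8], [0, 1, 2, 3, 4, 5, 6], [0, 1, 2, 3, 4, 5, 6, 8], [0, 1, 2, 3, 4, 5, 6, 7], [0, 1, 2, 3, 4, 5, 6, 7, 8]]

/-- The certificate. -/
def two : PcCover.Cert where
  n := 9
  rules := twoRules
  rels := twoRels
  cvec := [0, 0, 0, 1, 0, 0, 0, 0, 0, -2, 2, 0, 0, 0, 0, 0, 0, 0, 0, 0, 0, 0, 0, 0, 0, 0, 0, 0, 0, 0, 0, -2, 0, 0, 0, 0, 0, 0, 0, 0, 0, 0, 0, 0, 0]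
  m := 2
  mcomb := [12, 14, 2, -2, -16, 0, -2, -2, 3358, 0, -387, 403, 366, 3367, -457, 0, 462, -1124, 1128, 443, -1129, 364, -464, 89, 415, -2243, 756, 2477, 514, -4915, 373, 14, 1, -424, -1, 41, -7, 8, -2, 2, -2, 2]
  basis := twoBasis
  T := twoT
  elems := twoElems0 ++ twoElems1 ++ twoElems2 ++ twoElems3
  order := 44352000
  p := 2

/-- The letters as words. -/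
def threeWords : List (List ℕ) :=
  [[7, 5, 4, 6, 8, 7],
    [4, 6, 5, 6, 7, 6, 7, 8, 7, 8],
    [5, 3, 0, 6, 5, 3, 6, 7, 4, 8, 8, 7, 6, 8]]

/-- The letters as packed tables. -/
def threeTabs : List ℕ :=
  [0x8cc6bba5074f5e46726d294dd7ada68b0426ce59564f854a4609a2ceb4963dd7726a9a594622b986dadf71650c17ab8c3f676df34338e82055631487902e439e7e5d42e4090f103898d1254b030a28a11182c3040e08080,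
    0xc0bceb7513a0447eaacabb89949f6aceb4f332a6c685798ad44ea9d746da91e398a4c887330c7c72e2df82c9ed87cb9e5a60b10b44b44d9876e2ad44175cdb4e9281a2e24815263489424587830c1070818145820e28080,
    0x310c4c8083da127cf45cb2c80e4a9ad96a282402d4b03ad613691914931d3dfaaaaddc42f0a993ecec82a019da57e067299f8960a6069c395f0919d88a06b1a55d5de0159bc63d82ed1998d353064dd406a1c6118a20bae]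

/-- The rules. -/
def threeRules : PcCover.Rules :=
  [([0, 0, 0], []),
    ([1, 1, 1], []),
    ([1, 0], [0, 1])]

/-- The relations. -/
def threeRels : List PcCover.Rel :=
  [.cons [1] 0,
    .fus 2 [0] [0, 1, 1] [1, 1] [0]]

/-- The echelon rows. -/
def threeBasis : List (ℕ × List ℤ × List ℤ) :=
  [(2, [0, 0, 1], [0, -1, -1])]

/-- The derived group. -/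
def threeT : List (List ℕ × List ℤ) :=
  [([], [])]

/-- Part of the elements. -/
def threeElems0 : List (List ℕ) :=
  [[], [1], [1, 1], [0], [0, 1], [0, 1, 1], [0, 0], [0, 0, 1],
    [0, 0, 1, 1]]

/-- The certificate. -/
def three : PcCover.Cert where
  n := 2
  rules := threeRules
  rels := threeRels
  cvec := [0, 0, 0]
  m := 1
  mcomb := [0, 0]
  basis := threeBasis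
  T := threeT
  elems := threeElems0
  order := 44352000
  p := 3

/-- The letters as words. -/
def fiveWords : List (List ℕ) :=
  [[2, 7, 0, 2, 5, 6, 5, 6, 6, 7],
    [4, 6, 0, 3, 2, 5, 2, 5, 4, 6, 4, 7, 6, 7, 8],
    [2, 2, 0, 5, 5, 2, 3, 5, 5, 8, 4, 8, 8, 7],
    [2, 4, 0, 6, 6, 3, 2, 5, 8, 5, 6, 7, 8, 7, 8]]

/-- The letters as packed tables. -/
def fiveTabs : List ℕ :=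
  [0x77350d78615d06a78ce0384904db8a4f0b41ebd1b2b912abe711c02ec47d12941786357958d8e5022d2a2b24f331a4b0480966919b0c2017be08d4b5a9ca5020627d1baac8c14a2d33d6e1db39945a64e8cfd6016274554,
    0xa0a2c746e4c1674f06319aca621121e4be94a09a73236b503f7ea44855f01410cc8956891a9d08d8d9c4c6aed914de95e56c202001216d3710419245563635945797b13dee28606d2a1e96e10962edae1c19dbfc2a671e,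
    0x2a4edb852413cf2ecddd51c0cd24ba7ea351a052d133710b93a09d06a41d1d76e6e826236151410ad85a598660514fe38c898e14e937b031817e9a88ccb13cb3157803d2a44d5a81f1c6d04b34962cc04443deae130c956,
    0x5668eb24e58f955a2d429303911404c52ae54d4f3858e6344ab32f9ba324056bc81b8d241db1778f84195e4e6bf18722cb761a9858772de01286950a91dd4a030ad57c58c7e1b0c274fb20e40a68ce090ba442268091ea3]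

/-- The rules. -/
def fiveRules : PcCover.Rules :=
  [([0, 0, 0, 0, 0], []),
    ([1, 1, 1, 1, 1], []),
    ([2, 2, 2, 2, 2], []),
    ([1, 0], [0, 1, 2, 2]),
    ([2, 0], [0, 2]),
    ([2, 1], [1, 2])]

/-- The relations. -/
def fiveRels : List PcCover.Rel :=
  [.cons [1] 0,
    .cons [2] 0,
    .cons [2] 1,
    .fus 3 [0, 0, 0, 1, 2, 2, 2] [2, 2] [0, 0, 1, 1, 2] [2],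
    .fus 3 [2, 2] [0, 0, 0, 0, 1, 1, 1, 1, 2, 2, 2, 2] [2] [0, 0, 1, 1, 1, 1]]

/-- The echelon rows. -/
def fiveBasis : List (ℕ × List ℤ × List ℤ) :=
  [(2, [0, 0, 2, 5, 0, 0], [0, 1, -2, 0, 0, 0]),
    (4, [0, 0, 0, 0, 1, 0], [0, 0, 1, 0, 1, 0]),
    (5, [0, 0, 0, 0, 0, 1], [0, 0, 6, 1, 6, -1])]

/-- The derived group. -/
def fiveT : List (List ℕ × List ℤ) :=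
  [([], []),
    ([2], [0, 0, 1, 3, 0, 0]),
    ([2, 2], [0, 0, 0, 1, 0, 0]),
    ([2, 2, 2], [0, 0, 1, 4, 0, 0]),
    ([2, 2, 2, 2], [0, 0, 0, 2, 0, 0])]

/-- Part of the elements. -/
def fiveElems0 : List (List ℕ) :=
  [[], [2], [2, 2], [2, 2, 2], [2, 2, 2, 2], [1], [1, 2], [1, 2, 2],
    [1, 2, 2, 2], [1, 2, 2, 2, 2], [1, 1], [1, 1, 2], [1, 1, 2, 2], [1, 1, 2, 2, 2], [1, 1, 2, 2, 2, 2], [1, 1, 1],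
    [1, 1, 1, 2], [1, 1, 1, 2, 2], [1, 1, 1, 2, 2, 2], [1, 1, 1, 2, 2, 2, 2], [1, 1, 1, 1], [1, 1, 1, 1, 2], [1, 1, 1, 1, 2, 2], [1, 1, 1, 1, 2, 2, 2],
    [1, 1, 1, 1, 2, 2, 2, 2], [0], [0, 2], [0, 2, 2], [0, 2, 2, 2], [0, 2, 2, 2, 2], [0, 1], [0, 1, 2],
    [0, 1, 2, 2], [0, 1, 2, 2, 2], [0, 1, 2, 2, 2, 2], [0, 1, 1], [0, 1, 1, 2], [0, 1, 1, 2, 2], [0, 1, 1, 2, 2, 2], [0, 1, 1, 2, 2, 2, 2],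
    [0, 1, 1, 1], [0, 1, 1, 1, 2], [0, 1, 1, 1, 2, 2], [0, 1, 1, 1, 2, 2, 2], [0, 1, 1, 1, 2, 2, 2, 2], [0, 1, 1, 1, 1], [0, 1, 1, 1, 1, 2], [0, 1, 1, 1, 1, 2, 2],
    [0, 1, 1, 1, 1, 2, 2, 2], [0, 1, 1, 1, 1, 2, 2, 2, 2], [0, 0], [0, 0, 2], [0, 0, 2, 2], [0, 0, 2, 2, 2], [0, 0, 2, 2, 2, 2], [0, 0, 1],
    [0, 0, 1, 2], [0, 0, 1, 2, 2], [0, 0, 1, 2, 2, 2], [0, 0, 1, 2, 2, 2, 2], [0, 0, 1, 1], [0, 0, 1, 1, 2], [0, 0, 1, 1, 2, 2], [0, 0, 1, 1, 2, 2, 2],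
    [0, 0, 1, 1, 2, 2, 2, 2], [0, 0, 1, 1, 1], [0, 0, 1, 1, 1, 2], [0, 0, 1, 1, 1, 2, 2], [0, 0, 1, 1, 1, 2, 2, 2], [0, 0, 1, 1, 1, 2, 2, 2, 2], [0, 0, 1, 1, 1, 1], [0, 0, 1, 1, 1, 1, 2],
    [0, 0, 1, 1, 1, 1, 2, 2], [0, 0, 1, 1, 1, 1, 2, 2, 2], [0, 0, 1, 1, 1, 1, 2, 2, 2, 2], [0, 0, 0], [0, 0, 0, 2], [0, 0, 0, 2, 2], [0, 0, 0, 2, 2, 2], [0, 0, 0, 2, 2, 2, 2],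
    [0, 0, 0, 1], [0, 0, 0, 1, 2], [0, 0, 0, 1, 2, 2], [0, 0, 0, 1, 2, 2, 2], [0, 0, 0, 1, 2, 2, 2, 2], [0, 0, 0, 1, 1], [0, 0, 0, 1, 1, 2], [0, 0, 0, 1, 1, 2, 2],
    [0, 0, 0, 1, 1, 2, 2, 2], [0, 0, 0, 1, 1, 2, 2, 2, 2], [0, 0, 0, 1, 1, 1], [0, 0, 0, 1, 1, 1, 2], [0, 0, 0, 1, 1, 1, 2, 2], [0, 0, 0, 1, 1, 1, 2, 2, 2], [0, 0, 0, 1, 1, 1, 2, 2, 2, 2], [0, 0, 0, 1, 1, 1, 1],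
    [0, 0, 0, 1, 1, 1, 1, 2], [0, 0, 0, 1, 1, 1, 1, 2, 2], [0, 0, 0, 1, 1, 1, 1, 2, 2, 2], [0, 0, 0, 1, 1, 1, 1, 2, 2, 2, 2], [0, 0, 0, 0], [0, 0, 0, 0, 2], [0, 0, 0, 0, 2, 2], [0, 0, 0, 0, 2, 2, 2],
    [0, 0, 0, 0, 2, 2, 2, 2], [0, 0, 0, 0, 1], [0, 0, 0, 0, 1, 2], [0, 0, 0, 0, 1, 2, 2], [0, 0, 0, 0, 1, 2, 2, 2], [0, 0, 0, 0, 1, 2, 2, 2, 2], [0, 0, 0, 0, 1, 1], [0, 0, 0, 0, 1, 1, 2],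
    [0, 0, 0, 0, 1, 1, 2, 2], [0, 0, 0, 0, 1, 1, 2, 2, 2], [0, 0, 0, 0, 1, 1, 2, 2, 2, 2], [0, 0, 0, 0, 1, 1, 1], [0, 0, 0, 0, 1, 1, 1, 2], [0, 0, 0, 0, 1, 1, 1, 2, 2], [0, 0, 0, 0, 1, 1, 1, 2, 2, 2], [0, 0, 0, 0, 1, 1, 1, 2, 2, 2, 2],
    [0, 0, 0, 0, 1, 1, 1, 1], [0, 0, 0, 0, 1, 1, 1, 1, 2], [0, 0, 0, 0, 1, 1, 1, 1, 2, 2], [0, 0, 0, 0, 1, 1, 1, 1, 2, 2, 2], [0, 0, 0, 0, 1, 1, 1, 1, 2, 2, 2, 2]]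

/-- The certificate. -/
def five : PcCover.Cert where
  n := 3
  rules := fiveRules
  rels := fiveRels
  cvec := [0, 0, 0, 0, 0, 0]
  m := 1
  mcomb := [0, 0, 0, 0, 0]
  basis := fiveBasis
  T := fiveT
  elems := fiveElems0
  order := 44352000
  p := 5

end Cfsg.Agent.HSPerm.Upper
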