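/-
Checking the 2-part certificate through witnessing positions.
-/
import Cfsg.Agent.Lib.HigmanSimsPerm.DataUpper
import Cfsg.Agent.Lib.HigmanSimsPerm.DataIndex
import Cfsg.Agent.Lib.HigmanSimsPerm.Data
import Cfsg.Agent.Lib.PcCover.PermLetter

set_option autoImplicit false

namespace Cfsg.Agent.HSPerm.Upper

open Cfsg.Agent.PcCover Cfsg.Agent.StabCert

/-- Evaluates an integer to a literal before calling `f`. -/
def forceI {α : Type} (v : ℤ) (f : ℤ → α) : α :=
  match v with
  | Int.ofNat n => (match n with
    | 0 => f 0
    | m + 1 => f (Int.ofNat (m + 1)))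
  | Int.negSucc n => (match n with
    | 0 => f (Int.negSucc 0)
    | m + 1 => f (Int.negSucc (m + 1)))

theorem forceI_eq {α : Type} (v : ℤ) (f : ℤ → α) : forceI v f = f v := by
  unfold forceI
  split <;> split <;> rfl

/-- Evaluates a list of integers to literals before calling `f`. -/
def forceL {α : Type} : List ℤ → (List ℤ → α) → α
  | [], f => f []
  | a :: l, f => forceI a fun a => forceL l fun l => f (a :: l)

theorem forceL_eq {α : Type} : ∀ (l : List ℤ) (f : List ℤ → α), forceL l f = f l
  | [], _ => rfl
  | a :: l, f => by rw [forceL, forceI_eq, forceL_eq]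

/-- Reduction with evaluation at each row. -/
def zeroRed : List (ℕ × List ℤ × List ℤ) → List ℤ → Bool
  | [], v => zeroV v
  | (j, b, _) :: r, v => forceI (v.getD j 0 / b.getD j 1) fun q =>
      match q with
      | Int.ofNat 0 => zeroRed r v
      | _ => forceL (subV v (smulV q b)) fun v' => zeroRed r v'

theorem getD_addV : ∀ (v w : List ℤ) (k : ℕ), (addV v w).getD k 0 = v.getD k 0 + w.getD k 0
  | [], w, k => by simp [addV]
  | a :: v, [], k => by simp [addV]
  | a :: v, b :: w, 0 => rfl
  | a :: v, b :: w, k + 1 => by simpa [addV] using getD_addV v w k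

theorem getD_smulV (n : ℤ) : ∀ (v : List ℤ) (k : ℕ), (smulV n v).getD k 0 = n * v.getD k 0
  | [], k => by simp [smulV]
  | a :: v, 0 => rfl
  | a :: v, k + 1 => by simpa [smulV] using getD_smulV n v k

theorem zeroV_iff : ∀ v : List ℤ, zeroV v = true ↔ ∀ k, v.getD k 0 = 0
  | [] => by simp [zeroV]
  | a :: v => by
    have ih := zeroV_iff v
    constructor
    · intro h
      simp only [zeroV, List.all_cons, Bool.and_eq_true, beq_iff_eq] at h
      rintro (_ | k)
      · exact h.1
      · simpa using ih.1 h.2 k
    · intro h
      simp only [zeroV, List.all_cons, Bool.and_eq_true, beq_iff_eq]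
      exact ⟨h 0, ih.2 fun k => by simpa using h (k + 1)⟩

theorem red_congr : ∀ (r : List (ℕ × List ℤ × List ℤ)) (v w : List ℤ),
    (∀ k, v.getD k 0 = w.getD k 0) → ∀ k, (Cert.red r v).getD k 0 = (Cert.red r w).getD k 0
  | [], _, _, h => h
  | (j, b, m) :: r, v, w, h => red_congr r _ _ fun k => by
    simp only [subV, getD_addV, getD_smulV, h]

theorem zeroRed_eq : ∀ (r : List (ℕ × List ℤ × List ℤ)) (v : List ℤ),
    zeroRed r v = zeroV (Cert.red r v)
  | [], _ => rfl
  | (j, b, m) :: r, v => by
    rw [zeroRed, forceI_eq, Cert.red]
    by_cases hq : v.getD j 0 / b.getD j 1 = 0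
    · rw [hq]
      show zeroRed r v = _
      rw [zeroRed_eq r, Bool.eq_iff_iff, zeroV_iff, zeroV_iff]
      have h : ∀ k, v.getD k 0 = (subV v (smulV 0 b)).getD k 0 := fun k => by
        rw [subV, getD_addV, getD_smulV, getD_smulV]
        ring
      exact forall_congr' fun k => by rw [red_congr r v _ h k]
    · split
      · rename_i e
        exact absurd e hq
      · rw [forceL_eq, zeroRed_eq r]

/-- Membership in the lattice with evaluation at each row. -/
def inCS (C : Cert) (v : List ℤ) : Bool := forceL v (zeroRed C.basis)

theorem inC_of_inCS {C : Cert} {v : List ℤ} (h : inCS C v = true) : C.inC v = true := by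
  rw [inCS, forceL_eq, zeroRed_eq] at h
  exact h

/-- A rule for each first pair of letters. -/
def ruleTab : List (List (Option ℕ)) :=
  [[some 0, none, none, none, none, none, none, none, none],
    [some 9, some 1, none, none, none, none, none, none, none],
    [some 10, some 11, some 2, none, none, none, none, none, none],
    [some 12, some 13, some 14, some 3, none, none, none, none, none],
    [some 15, some 16, some 17, some 18, some 4, none, none, none, none],
    [some 19, some 20, some 21, some 22, some 23, some 5, none, none, none],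
    [some 24, some 25, some 26, some 27, some 28, some 29, some 6, none, none],
    [some 30, some 31, some 32, some 33, some 34, some 35, some 36, some 7, none],
    [some 37, some 38, some 39, some 40, some 41, some 42, some 43, some 44, some 8]]

theorem ruleTab_ok : ((List.range 9).all fun x => (List.range 9).all fun y =>
    ((ruleTab.getD x []).getD y none) == findRule twoRules [x, y]) &&
    twoRules.all (fun r => r.1.length == 2 && r.1.all (fun a => decide (a < 9))) &&
    ruleTab.length == 9 && ruleTab.all (fun l => l.length == 9) = true := by decide +kernel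

/-- The rule applying at the front of a word. -/
def lookRule : ℕ → List ℕ → Option ℕ
  | _, [] => none
  | x, y :: _ => (ruleTab.getD x []).getD y none

theorem findIdx_congr {α : Type} {p q : α → Bool} : ∀ (l : List α), (∀ a ∈ l, p a = q a) →
    l.findIdx? p = l.findIdx? q
  | [], _ => rfl
  | a :: l, h => by
    rw [List.findIdx?_cons, List.findIdx?_cons, h a List.mem_cons_self,
      findIdx_congr l fun b hb => h b (List.mem_cons_of_mem _ hb)]

theorem lookRule_eq (x : ℕ) (r : List ℕ) : lookRule x r = findRule twoRules (x :: r) := by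
  have h := ruleTab_ok
  simp only [Bool.and_eq_true, List.all_eq_true, List.mem_range, beq_iff_eq, decide_eq_true_eq] at h
  obtain ⟨⟨⟨htab, hrule⟩, hlen⟩, hrow⟩ := h
  have hform : ∀ rl ∈ twoRules, ∃ a b, rl.1 = [a, b] ∧ a < 9 ∧ b < 9 := by
    intro rl hr
    obtain ⟨h2, h3⟩ := hrule rl hr
    obtain ⟨a, b, e⟩ := List.length_eq_two.1 h2
    exact ⟨a, b, e, h3 a (by simp [e]), h3 b (by simp [e])⟩
  cases r with
  | nil =>
    rw [lookRule, findRule, eq_comm, List.findIdx?_eq_none_iff]
    intro rl hr
    obtain ⟨a, b, e, -, -⟩ := hform rl hr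
    simp [e, List.isPrefixOf]
  | cons y r =>
    rw [lookRule, findRule]
    by_cases hxy : x < 9 ∧ y < 9
    · rw [htab x hxy.1 y hxy.2, findRule]
      refine findIdx_congr _ fun rl hr => ?_
      obtain ⟨a, b, e, -, -⟩ := hform rl hr
      simp [e, List.isPrefixOf]
    · have hn : (ruleTab.getD x []).getD y none = none := by
        by_cases hx : x < 9
        · have hy : 9 ≤ y := by omega
          refine List.getD_eq_default _ _ ?_
          rw [hrow _ (by rw [List.getD_eq_getElem _ _ (hlen ▸ hx)]; exact List.getElem_mem _)]
          exact hy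
        · rw [show ruleTab.getD x [] = [] from List.getD_eq_default _ _ (by omega)]
          rfl
      rw [hn, eq_comm, List.findIdx?_eq_none_iff]
      intro rl hr
      obtain ⟨a, b, e, ha, hb⟩ := hform rl hr
      simp only [e, List.isPrefixOf, Bool.and_true, Bool.and_eq_false_iff, beq_eq_false_iff_ne]
      omega

/-- Evaluates a list of numbers to literals before calling `f`. -/
def forceN {α : Type} : List ℕ → (List ℕ → α) → α
  | [], f => f []
  | a :: l, f => (match a with
    | 0 => forceN l fun l => f (0 :: l)
    | m + 1 => forceN l fun l => f ((m + 1) :: l))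

theorem forceN_eq {α : Type} : ∀ (l : List ℕ) (f : List ℕ → α), forceN l f = f l
  | [], _ => rfl
  | a :: l, f => by cases a <;> simp [forceN, forceN_eq l]

/-- One rewriting, with the table. -/
def stepS : List ℕ → Option (List ℕ × ℕ)
  | [] => none
  | x :: r =>
    match lookRule x r with
    | some k => some ((twoRules.getD k ([], [])).2 ++ (x :: r).drop (twoRules.getD k ([], [])).1.length, k)
    | none => (stepS r).map fun p => (x :: p.1, p.2)

theorem stepS_eq : ∀ w, stepS w = step twoRules w
  | [] => rfl
  | x :: r => by rw [stepS, step, lookRule_eq, stepS_eq r]; rfl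

/-- Repeated rewriting with evaluation. -/
def collectAuxS : ℕ → List ℕ → List ℤ → List ℕ × List ℤ
  | 0, w, v => (w, v)
  | n + 1, w, v =>
    match stepS w with
    | some (w', k) => forceN w' fun w'' => forceL (addV v (unitV k)) fun v' => collectAuxS n w'' v'
    | none => (w, v)

theorem collectAuxS_eq : ∀ (n : ℕ) (w : List ℕ) (v : List ℤ),
    collectAuxS n w v = collectAux twoRules n w v
  | 0, _, _ => rfl
  | n + 1, w, v => by
    rw [collectAuxS, collectAux, stepS_eq]
    split <;> simp_all [forceN_eq, forceL_eq, collectAuxS_eq n]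

/-- The collected word, fast. -/
def collectS (w : List ℕ) : List ℕ × List ℤ := collectAuxS 100 w []

theorem collectS_eq (w : List ℕ) : collectS w = collect two.rules w := collectAuxS_eq 100 w []

/-- `Cert.inT` at a given position. -/
def inTAt (k : ℕ) (l r : List ℕ) (v : List ℤ) : Bool :=
  match two.T[k]? with
  | none => false
  | some t => (collectS l).1 == (collectS (r ++ t.1)).1 &&
      inCS two (subV (addV v (collectS l).2) (addV t.2 (collectS (r ++ t.1)).2))

theorem inT_of_at {k : ℕ} {l r : List ℕ} {v : List ℤ} (h : inTAt k l r v = true) :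
    two.inT l r v = true := by
  unfold inTAt at h
  split at h
  · simp at h
  · rename_i t ht
    rw [Bool.and_eq_true, collectS_eq, collectS_eq] at h
    exact List.any_eq_true.2 ⟨t, List.mem_of_getElem? ht,
      by rw [Bool.and_eq_true]; exact ⟨h.1, inC_of_inCS h.2⟩⟩

/-- Two lists tested entry by entry. -/
def allTwo {α β : Type} (f : α → β → Bool) : List α → List β → Bool
  | [], _ => true
  | _ :: _, [] => false
  | a :: l, b :: m => f a b && allTwo f l m

theorem allTwo_spec {α β : Type} {f : α → β → Bool} : ∀ {l : List α} {m : List β},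
    allTwo f l m = true → ∀ a ∈ l, ∃ b, f a b = true
  | [], _, _, a, ha => absurd ha List.not_mem_nil
  | _ :: _, [], h, _, _ => by simp [allTwo] at h
  | x :: l, y :: m, h, a, ha => by
    simp only [allTwo, Bool.and_eq_true] at h
    rcases List.mem_cons.1 ha with rfl | ha
    · exact ⟨y, h.1⟩
    · exact allTwo_spec h.2 a ha

/-- The product condition for one element. -/
def mulRow (t : List ℕ × List ℤ) (ks : List ℕ) : Bool :=
  allTwo (fun t' k => inTAt k (t.1 ++ t'.1) [] (addV t.2 t'.2)) two.T ks

/-- The conjugation condition at a given position. -/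
def conjAt (t : List ℕ × List ℤ) (i k : ℕ) : Bool :=
  match two.T[k]? with
  | none => false
  | some t' => (collectS (i :: t.1)).1 == (collectS (t'.1 ++ [i])).1 &&
      inCS two (subV (addV t.2 (collectS (i :: t.1)).2) (addV t'.2 (collectS (t'.1 ++ [i])).2))

/-- The conjugation condition for one element. -/
def conjRow (t : List ℕ × List ℤ) (ks : List ℕ) : Bool :=
  allTwo (conjAt t) (List.range two.n) ks

/-- The closure condition at a given position. -/
def closedAt (l : List ℕ) (i k : ℕ) : Bool :=
  match two.elems[k]? with
  | none => false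
  | some e => e == (collectS (l ++ [i])).1

/-- The closure condition for one element. -/
def closedRow (l : List ℕ) (ks : List ℕ) : Bool :=
  allTwo (closedAt l) (List.range two.n) ks

/-- The images of the distinguishing points, packed. -/
def sig (l : List ℕ) : ℕ :=
  sigPts.foldr (fun x s => Nat.add (PermLetter.evT 7 twoTabs l x) (Nat.mul 128 s)) 0

/-- Pairwise different numbers. -/
def pairwiseNe : List ℕ → Bool
  | [] => true
  | a :: l => l.all (fun b => !(Nat.beq a b)) && pairwiseNe l

theorem nodup_of_pairwiseNe : ∀ {l : List ℕ}, pairwiseNe l = true → l.Nodup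
  | [], _ => List.nodup_nil
  | a :: l, h => by
    simp only [pairwiseNe, Bool.and_eq_true, List.all_eq_true, Bool.not_eq_true'] at h
    refine List.nodup_cons.2 ⟨fun ha => ?_, nodup_of_pairwiseNe h.2⟩
    have := h.1 a ha
    rw [Bool.eq_false_iff, ne_eq, Nat.beq_eq] at this
    exact this rfl

end Cfsg.Agent.HSPerm.Upper
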