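/-
The closed condition.
-/
import Cfsg.Agent.Lib.HigmanSimsPerm.CheckBasic

set_option autoImplicit false
set_option maxRecDepth 100000
set_option Elab.async false

namespace Cfsg.Agent.HSPerm.Upper

open Cfsg.Agent.PcCover Cfsg.Agent.StabCert

theorem two_closed0 : allTwo closedRow ((two.elems.drop 0).take 64) ((closedIdx0.drop 0).take 64) = true := by decide +kernel

theorem two_closed1 : allTwo closedRow ((two.elems.drop 64).take 64) ((closedIdx0.drop 64).take 64) = true := by decide +kernel

theorem two_closed2 : allTwo closedRow ((two.elems.drop 128).take 64) ((closedIdx1.drop 0).take 64) = true := by decide +kernel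

theorem two_closed3 : allTwo closedRow ((two.elems.drop 192).take 64) ((closedIdx1.drop 64).take 64) = true := by decide +kernel

theorem two_closed4 : allTwo closedRow ((two.elems.drop 256).take 64) ((closedIdx2.drop 0).take 64) = true := by decide +kernel

theorem two_closed5 : allTwo closedRow ((two.elems.drop 320).take 64) ((closedIdx2.drop 64).take 64) = true := by decide +kernel

theorem two_closed6 : allTwo closedRow ((two.elems.drop 384).take 64) ((closedIdx3.drop 0).take 64) = true := by decide +kernel

theorem two_closed7 : allTwo closedRow ((two.elems.drop 448).take 64) ((closedIdx3.drop 64).take 64) = true := by decide +kernel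

theorem two_closed_rows : ∀ x ∈ two.elems, ∃ ks, closedRow x ks = true := by
  intro x hx
  have h : two.elems = ((two.elems.drop 0).take 64) ++ ((two.elems.drop 64).take 64) ++ ((two.elems.drop 128).take 64) ++ ((two.elems.drop 192).take 64) ++ ((two.elems.drop 256).take 64) ++ ((two.elems.drop 320).take 64) ++ ((two.elems.drop 384).take 64) ++ ((two.elems.drop 448).take 64) := by decide +kernel
  rw [h] at hx
  simp only [List.mem_append] at hx
  rcases hx with ((((((hx | hx) | hx) | hx) | hx) | hx) | hx) | hx
  · exact allTwo_spec two_closed0 x hx
  · exact allTwo_spec two_closed1 x hx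
  · exact allTwo_spec two_closed2 x hx
  · exact allTwo_spec two_closed3 x hx
  · exact allTwo_spec two_closed4 x hx
  · exact allTwo_spec two_closed5 x hx
  · exact allTwo_spec two_closed6 x hx
  · exact allTwo_spec two_closed7 x hx

theorem two_closed_ok : (two.elems.all fun l => (List.range two.n).all fun i =>
    two.elems.contains (collect two.rules (l ++ [i])).1) = true := by
  rw [List.all_eq_true]
  intro l hl
  rw [List.all_eq_true]
  intro i hi
  obtain ⟨ks, h⟩ := two_closed_rows l hl
  obtain ⟨k, hk⟩ := allTwo_spec h i hi
  unfold closedAt at hk
  split at hk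
  · simp at hk
  · rename_i e he
    rw [List.contains_iff_mem, ← collectS_eq, ← eq_of_beq hk]
    exact List.mem_of_getElem? he

end Cfsg.Agent.HSPerm.Upper
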