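/-
The conj condition.
-/
import Cfsg.Agent.Lib.HigmanSimsPerm.CheckBasic

set_option autoImplicit false
set_option maxRecDepth 100000
set_option Elab.async false

namespace Cfsg.Agent.HSPerm.Upper

open Cfsg.Agent.PcCover Cfsg.Agent.StabCert

theorem two_conj0 : allTwo conjRow ((two.T.drop 0).take 16) ((conjIdx.drop 0).take 16) = true := by decide +kernel

theorem two_conj1 : allTwo conjRow ((two.T.drop 16).take 16) ((conjIdx.drop 16).take 16) = true := by decide +kernel

theorem two_conj2 : allTwo conjRow ((two.T.drop 32).take 16) ((conjIdx.drop 32).take 16) = true := by decide +kernel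

theorem two_conj3 : allTwo conjRow ((two.T.drop 48).take 16) ((conjIdx.drop 48).take 16) = true := by decide +kernel

theorem two_conj_rows : ∀ x ∈ two.T, ∃ ks, conjRow x ks = true := by
  intro x hx
  have h : two.T = ((two.T.drop 0).take 16) ++ ((two.T.drop 16).take 16) ++ ((two.T.drop 32).take 16) ++ ((two.T.drop 48).take 16) := by decide +kernel
  rw [h] at hx
  simp only [List.mem_append] at hx
  rcases hx with ((hx | hx) | hx) | hx
  · exact allTwo_spec two_conj0 x hx
  · exact allTwo_spec two_conj1 x hx
  · exact allTwo_spec two_conj2 x hx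
  · exact allTwo_spec two_conj3 x hx

theorem two_conj_ok : ((List.range two.n).all fun i => two.T.all fun t =>
    two.T.any fun t' =>
      (collect two.rules (i :: t.1)).1 == (collect two.rules (t'.1 ++ [i])).1 &&
      two.inC (subV (addV t.2 (collect two.rules (i :: t.1)).2)
        (addV t'.2 (collect two.rules (t'.1 ++ [i])).2))) = true := by
  rw [List.all_eq_true]
  intro i hi
  rw [List.all_eq_true]
  intro t ht
  obtain ⟨ks, h⟩ := two_conj_rows t ht
  obtain ⟨k, hk⟩ := allTwo_spec h i hi
  unfold conjAt at hk
  split at hk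
  · simp at hk
  · rename_i t' ht'
    rw [Bool.and_eq_true, collectS_eq, collectS_eq] at hk
    exact List.any_eq_true.2 ⟨t', List.mem_of_getElem? ht',
      by rw [Bool.and_eq_true]; exact ⟨hk.1, inC_of_inCS hk.2⟩⟩

end Cfsg.Agent.HSPerm.Upper
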