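/-
The mul condition, part 2.
-/
import Cfsg.Agent.Lib.HigmanSimsPerm.CheckBasic

set_option autoImplicit false
set_option maxRecDepth 100000
set_option Elab.async false

namespace Cfsg.Agent.HSPerm.Upper

open Cfsg.Agent.PcCover Cfsg.Agent.StabCert

theorem two_mul8 : allTwo mulRow ((two.T.drop 32).take 4) ((mulIdx2.drop 0).take 4) = true := by decide +kernel

theorem two_mul9 : allTwo mulRow ((two.T.drop 36).take 4) ((mulIdx2.drop 4).take 4) = true := by decide +kernel

theorem two_mul10 : allTwo mulRow ((two.T.drop 40).take 4) ((mulIdx2.drop 8).take 4) = true := by decide +kernel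

theorem two_mul11 : allTwo mulRow ((two.T.drop 44).take 4) ((mulIdx2.drop 12).take 4) = true := by decide +kernel

end Cfsg.Agent.HSPerm.Upper
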