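/-
The mul condition.
-/
import Cfsg.Agent.Lib.HigmanSimsPerm.CheckMul0
import Cfsg.Agent.Lib.HigmanSimsPerm.CheckMul1
import Cfsg.Agent.Lib.HigmanSimsPerm.CheckMul2
import Cfsg.Agent.Lib.HigmanSimsPerm.CheckMul3

set_option autoImplicit false
set_option maxRecDepth 100000
set_option Elab.async false

namespace Cfsg.Agent.HSPerm.Upper

open Cfsg.Agent.PcCover Cfsg.Agent.StabCert

theorem two_mul_rows : ∀ x ∈ two.T, ∃ ks, mulRow x ks = true := by
  intro x hx
  have h : two.T = ((two.T.drop 0).take 4) ++ ((two.T.drop 4).take 4) ++ ((two.T.drop 8).take 4) ++ ((two.T.drop 12).take 4) ++ ((two.T.drop 16).take 4) ++ ((two.T.drop 20).take 4) ++ ((two.T.drop 24).take 4) ++ ((two.T.drop 28).take 4) ++ ((two.T.drop 32).take 4) ++ ((two.T.drop 36).take 4) ++ ((two.T.drop 40).take 4) ++ ((two.T.drop 44).take 4) ++ ((two.T.drop 48).take 4) ++ ((two.T.drop 52).take 4) ++ ((two.T.drop 56).take 4) ++ ((two.T.drop 60).take 4) := by decide +kernel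
  rw [h] at hx
  simp only [List.mem_append] at hx
  rcases hx with ((((((((((((((hx | hx) | hx) | hx) | hx) | hx) | hx) | hx) | hx) | hx) | hx) | hx) | hx) | hx) | hx) | hx
  · exact allTwo_spec two_mul0 x hx
  · exact allTwo_spec two_mul1 x hx
  · exact allTwo_spec two_mul2 x hx
  · exact allTwo_spec two_mul3 x hx
  · exact allTwo_spec two_mul4 x hx
  · exact allTwo_spec two_mul5 x hx
  · exact allTwo_spec two_mul6 x hx
  · exact allTwo_spec two_mul7 x hx
  · exact allTwo_spec two_mul8 x hx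
  · exact allTwo_spec two_mul9 x hx
  · exact allTwo_spec two_mul10 x hx
  · exact allTwo_spec two_mul11 x hx
  · exact allTwo_spec two_mul12 x hx
  · exact allTwo_spec two_mul13 x hx
  · exact allTwo_spec two_mul14 x hx
  · exact allTwo_spec two_mul15 x hx

theorem two_mul_ok : (two.T.all fun t => two.T.all fun t' =>
    two.inT (t.1 ++ t'.1) [] (addV t.2 t'.2)) = true := by
  rw [List.all_eq_true]
  intro t ht
  rw [List.all_eq_true]
  intro t' ht'
  obtain ⟨ks, h⟩ := two_mul_rows t ht
  obtain ⟨k, hk⟩ := allTwo_spec h t' ht'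
  exact inT_of_at hk

end Cfsg.Agent.HSPerm.Upper
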