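/-
The remaining conditions, and the small certificates.
-/
import Cfsg.Agent.Lib.HigmanSimsPerm.CheckBasic

set_option autoImplicit false
set_option maxRecDepth 100000
set_option Elab.async false

namespace Cfsg.Agent.HSPerm.Upper

open Cfsg.Agent.PcCover Cfsg.Agent.StabCert

theorem two_rules_ok : (two.rules.all fun r => PermLetter.eqT 7 100 twoTabs r.1 r.2) = true := by decide +kernel

theorem two_rels_ok : (two.rels.all (two.relOk (PermLetter.eqT 7 100 twoTabs))) = true := by decide +kernel

theorem two_lattice_ok : (zeroV (subV (smulV (two.m : ℤ) two.cvec) (comb two.mcomb (two.rels.map two.relVec))) &&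
    (two.basis.all fun b => zeroV (subV b.2.1 (comb b.2.2 (two.cvec :: two.rels.map two.relVec)))) &&
    two.T.contains ([], [])) = true := by decide +kernel

theorem two_comm_rows : allTwo (fun x ks => allTwo (fun y k => inTAt k [x, y] [y, x] []) (List.range two.n) ks)
    (List.range two.n) commIdx = true := by decide +kernel

theorem two_comm_ok : ((List.range two.n).all fun x => (List.range two.n).all fun y =>
    two.inT [x, y] [y, x] []) = true := by
  rw [List.all_eq_true]
  intro x hx
  rw [List.all_eq_true]
  intro y hy
  obtain ⟨ks, h⟩ := allTwo_spec two_comm_rows x hx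
  obtain ⟨k, hk⟩ := allTwo_spec h y hy
  exact inT_of_at hk

theorem two_kernel_ok : ((two.T.all fun t => !PermLetter.eqT 7 100 twoTabs t.1 [] || (t.1 == [] && zeroV t.2)) &&
    two.elems.contains [] &&
    (two.elems.all fun l => l.all (fun i => decide (i < two.n)))) = true := by decide +kernel

theorem two_sigs : two.elems.map sig = sigs := by decide +kernel

theorem sigs_ne : pairwiseNe sigs = true := by decide +kernel

theorem two_sig_pts : sigPts.all (fun x => decide (x < 100)) = true := by decide +kernel

theorem two_nodup_ok : ((List.range two.elems.length).all fun i => (List.range i).all fun j =>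
    !PermLetter.eqT 7 100 twoTabs (two.elems.getD i []) (two.elems.getD j [])) = true := by
  rw [List.all_eq_true]
  intro i hi
  rw [List.all_eq_true]
  intro j hj
  rw [Bool.not_eq_true', Bool.eq_false_iff]
  intro he
  have hi := List.mem_range.1 hi
  have hj := List.mem_range.1 hj
  simp only [PermLetter.eqT, List.all_eq_true, List.mem_range, Nat.beq_eq] at he
  have hb := two_sig_pts
  simp only [List.all_eq_true, decide_eq_true_eq] at hb
  have hs : ∀ L : List ℕ, (∀ x ∈ L, x < 100) →
      L.foldr (fun x s => Nat.add (PermLetter.evT 7 twoTabs (two.elems.getD i []) x) (Nat.mul 128 s)) 0 =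
      L.foldr (fun x s => Nat.add (PermLetter.evT 7 twoTabs (two.elems.getD j []) x) (Nat.mul 128 s)) 0 := by
    intro L hL
    induction L with
    | nil => rfl
    | cons a L ih =>
      rw [List.foldr_cons, List.foldr_cons, he a (hL a List.mem_cons_self),
        ih fun x hx => hL x (List.mem_cons_of_mem _ hx)]
  have e : sig (two.elems[i]'hi) = sig (two.elems[j]'(hj.trans hi)) := by
    have := hs sigPts hb
    simpa only [List.getD_eq_getElem _ _ hi, List.getD_eq_getElem _ _ (hj.trans hi), sig] using this
  have hn := nodup_of_pairwiseNe sigs_ne
  rw [← two_sigs] at hn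
  have := (hn.getElem_inj_iff (i := i) (j := j) (hi := by simpa using hi)
    (hj := by simpa using hj.trans hi)).1 (by simpa using e)
  omega

theorem two_order_ok : (two.order % two.elems.length == 0 &&
    !(two.order / two.elems.length % two.p == 0)) = true := by decide +kernel

theorem two_letters : PermLetter.letterOK 7 100 9 tab twoWords twoTabs = true := by decide +kernel
theorem three_letters : PermLetter.letterOK 7 100 9 tab threeWords threeTabs = true := by decide +kernel
theorem five_letters : PermLetter.letterOK 7 100 9 tab fiveWords fiveTabs = true := by decide +kernel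

theorem three_cert : three.check (PermLetter.eqT 7 100 threeTabs) = true := by decide +kernel
theorem five_cert : five.check (PermLetter.eqT 7 100 fiveTabs) = true := by decide +kernel

end Cfsg.Agent.HSPerm.Upper
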