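/-
Upper bound for the Schur multiplier of the Higman-Sims group on a hundred points.

Main result: `exists_surj_two`.
-/
import Cfsg.Agent.Lib.HigmanSimsPerm.Basic
import Cfsg.Agent.Lib.HigmanSimsPerm.CheckRels
import Cfsg.Agent.Lib.HigmanSimsPerm.CheckMul
import Cfsg.Agent.Lib.HigmanSimsPerm.CheckClosed
import Cfsg.Agent.Lib.HigmanSimsPerm.CheckConj
import Cfsg.Agent.Lib.Schur.Basic

set_option autoImplicit false
set_option linter.style.haveILetI false
set_option maxRecDepth 100000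
set_option Elab.async false
open Cfsg

universe u

namespace Cfsg.Agent.HSPerm.Upper

open Cfsg.Agent.PcCover Cfsg.Agent.StabCert

/-- The generators in the group. -/
noncomputable def gens (k : ℕ) : hsPerm :=
  if h : k < 9 then ⟨gen k, gen_mem_sub gen (List.mem_range.2 h)⟩ else 1

theorem gens_sound : TablesSound hsPerm.subtype gens (fun i => Fin.ofNat 100 i) 7 100 9 tab := by
  intro k hk i hi
  have h := sound k hk i hi
  simpa only [gens, dif_pos hk, Subgroup.coe_subtype, MonoidHom.id_apply, pt] using h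

/-- Letters of a certificate. -/
noncomputable def letterH (words : List (List ℕ)) : ℕ → hsPerm := PermLetter.el gens words

theorem eq_iff {words : List (List ℕ)} {tabs : List ℕ}
    (h : PermLetter.letterOK 7 100 9 tab words tabs = true) (v w : List ℕ) :
    PermLetter.eqT 7 100 tabs v w = true ↔ wp (letterH words) v = wp (letterH words) w :=
  PermLetter.eqT_iff hsPerm.subtype Subtype.val_injective (PermLetter.el_sound hsPerm.subtype gens_sound h) v w

theorem two_cert : two.check (PermLetter.eqT 7 100 twoTabs) = true := by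
  have h1 := two_lattice_ok
  have h4 := two_kernel_ok
  simp only [Bool.and_eq_true] at h1 h4
  obtain ⟨⟨a3, a4⟩, a5⟩ := h1
  obtain ⟨⟨b2, b3⟩, b4⟩ := h4
  rw [Cert.check]
  simp only [Bool.and_eq_true]
  exact ⟨⟨⟨⟨⟨⟨⟨⟨⟨⟨⟨⟨⟨two_rules_ok, two_rels_ok⟩, a3⟩, a4⟩, a5⟩, two_mul_ok⟩, two_conj_ok⟩, two_comm_ok⟩,
    b2⟩, b3⟩, b4⟩, two_closed_ok⟩, two_nodup_ok⟩, Bool.and_eq_true_iff.1 two_order_ok⟩

/-- The kernel of a stem extension has order at most two. -/
theorem exists_surj_two {Γ : Type u} [Group Γ] [Finite Γ] (σ : Γ →* hsPerm)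
    (hσ : Cfsg.IsStemExtension σ) :
    ∃ π : Multiplicative (ZMod 2) →* σ.ker, Function.Surjective π := by
  classical
  obtain ⟨c, h2⟩ := Cert.bound two (letterH twoWords) _ (eq_iff two_letters)
    natCard_hsPerm Nat.prime_two two_cert hσ
  obtain ⟨c₃, h3⟩ := Cert.bound three (letterH threeWords) _ (eq_iff three_letters)
    natCard_hsPerm Nat.prime_three three_cert hσ
  obtain ⟨c₅, h5⟩ := Cert.bound five (letterH fiveWords) _ (eq_iff five_letters)
    natCard_hsPerm Nat.prime_five five_cert hσ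
  have hodd : ∀ (p : ℕ), p.Prime → p ≠ 2 → ∀ (k : ℕ) (z : Γ), z ∈ σ.ker → z ^ p ^ k = 1 → z = 1 := by
    intro p hp hp2 k z hz hord
    by_cases hp3 : p = 3
    · subst hp3; exact (pow_one z).symm.trans (h3 k z hz hord).2
    by_cases hp5 : p = 5
    · subst hp5; exact (pow_one z).symm.trans (h5 k z hz hord).2
    haveI := Fact.mk hp
    have hns : ¬ p ^ 2 ∣ 44352000 := by
      intro hd
      have hpd : p ∣ 2 ^ 9 * (3 ^ 2 * (5 ^ 3 * (7 * 11))) :=
        (dvd_pow_self p two_ne_zero).trans (by norm_num; exact hd)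
      rcases hp.dvd_mul.1 hpd with h | h
      · exact hp2 ((Nat.prime_dvd_prime_iff_eq hp Nat.prime_two).1 (hp.dvd_of_dvd_pow h))
      rcases hp.dvd_mul.1 h with h | h
      · exact hp3 ((Nat.prime_dvd_prime_iff_eq hp Nat.prime_three).1 (hp.dvd_of_dvd_pow h))
      rcases hp.dvd_mul.1 h with h | h
      · exact hp5 ((Nat.prime_dvd_prime_iff_eq hp Nat.prime_five).1 (hp.dvd_of_dvd_pow h))
      rcases hp.dvd_mul.1 h with h | h <;>
        (rw [(Nat.prime_dvd_prime_iff_eq hp (by norm_num)).1 h] at hd; norm_num at hd)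
    by_cases hd : p ∣ Nat.card hsPerm
    · obtain ⟨r, hr⟩ := exists_prime_orderOf_dvd_card' (G := hsPerm) p hd
      refine Schur.eq_one_of_cyclic hσ hp r (fun hdi => hns ?_) hz hord
      rw [← natCard_hsPerm, pow_two, ← (Subgroup.zpowers r).card_mul_index, Nat.card_zpowers, hr]
      exact Nat.mul_dvd_mul_left p hdi
    · refine Schur.eq_one_of_cyclic hσ hp 1 (fun hdi => hd ?_) hz hord
      rwa [Subgroup.zpowers_one_eq_bot, Subgroup.index_bot] at hdi
  have hle : σ.ker ≤ Subgroup.zpowers c := Schur.le_of_primary fun p hp k w hw hwk => by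
    by_cases hp2 : p = 2
    · subst hp2; exact (h2 k w hw hwk).1
    · rw [hodd p hp hp2 k w hw hwk]; exact one_mem _
  have hsq : ∀ z : σ.ker, z ^ 2 = 1 := by
    letI : CommGroup σ.ker :=
      { (inferInstance : Group σ.ker) with
        mul_comm := fun x y => Subtype.ext ((Subgroup.mem_center_iff.1 (hσ.2.1 y.2)) x.1) }
    let K : Subgroup Γ := (powMonoidHom 2 : σ.ker →* σ.ker).ker.map σ.ker.subtype
    have hK : σ.ker ≤ K := Schur.le_of_primary fun p hp k w hw hwk => by
      refine ⟨⟨w, hw⟩, Subtype.ext ?_, rfl⟩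
      show w ^ 2 = 1
      by_cases hp2 : p = 2
      · subst hp2; exact (h2 k w hw hwk).2
      · rw [hodd p hp hp2 k w hw hwk, one_pow]
    intro z
    obtain ⟨w, hw, hwz⟩ := hK z.2
    rw [← Subtype.ext hwz]
    exact hw
  haveI : IsCyclic σ.ker := Subgroup.isCyclic_of_le hle
  obtain ⟨g, hg⟩ := IsCyclic.exists_generator (α := σ.ker)
  let f : ℤ →+ Additive σ.ker := zmultiplesHom _ (Additive.ofMul g)
  have hf : f ((2 : ℕ) : ℤ) = 0 := by
    show Additive.ofMul (g ^ ((2 : ℕ) : ℤ)) = 0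
    rw [zpow_natCast, hsq]
    rfl
  refine ⟨AddMonoidHom.toMultiplicativeLeft (ZMod.lift 2 ⟨f, hf⟩), fun x => ?_⟩
  obtain ⟨i, hi⟩ := Subgroup.mem_zpowers_iff.1 (hg x)
  refine ⟨Multiplicative.ofAdd (i : ZMod 2), ?_⟩
  show Additive.toMul (ZMod.lift 2 ⟨f, hf⟩ (i : ZMod 2)) = x
  rw [ZMod.lift_coe]
  exact hi

end Cfsg.Agent.HSPerm.Upper
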