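import Cfsg.Agent.Lib.HigmanSimsPerm.Basic
import Cfsg.Agent.Lib.HigmanSimsPerm.CoverData
import Cfsg.Prelude.Def_KGroupFacts

/-!
# The double cover of the Higman-Sims group on 352 pairs of points

* `exists_two_cover` : a stem extension of `hsPerm` with kernel of order two
-/

set_option autoImplicit false
set_option maxRecDepth 100000
set_option Elab.async false

open scoped commutatorElement

namespace Cfsg.Agent.HSPerm

open Cfsg.Agent.StabCert

/-- The image of a pair. -/
def piN (k i : ℕ) : ℕ := look 9 (piTab.getD k 0) i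

/-- Whether a pair is exchanged. -/
def flipN (k i : ℕ) : Bool := (flips.getD k 0).testBit i

theorem pi_ok : ((List.range 2).all fun k => (List.range 352).all fun i =>
    Nat.blt (piN k i) 352 && look 9 (piInvTab.getD k 0) (piN k i) == i) = true := by decide +kernel

theorem pi_spec {k : ℕ} (hk : k < 2) {i : ℕ} (hi : i < 352) :
    piN k i < 352 ∧ look 9 (piInvTab.getD k 0) (piN k i) = i := by
  have h := pi_ok
  simp only [List.all_eq_true, Bool.and_eq_true, List.mem_range, Nat.blt_eq, beq_iff_eq] at h
  exact h k hk i hi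

/-- The image of a cover point. -/
def cimg (k : ℕ) (x : Fin 352 × Bool) : Fin 352 × Bool :=
  (Fin.ofNat 352 (piN k x.1), xor x.2 (flipN k x.1))

theorem cimg_injective {k : ℕ} (hk : k < 2) : Function.Injective (cimg k) := by
  rintro ⟨i, a⟩ ⟨j, b⟩ e
  obtain ⟨hi, hi'⟩ := pi_spec hk i.isLt
  obtain ⟨hj, hj'⟩ := pi_spec hk j.isLt
  simp only [cimg, Prod.mk.injEq] at e
  have e1 := congrArg Fin.val e.1
  simp only [Fin.val_ofNat, Nat.mod_eq_of_lt hi, Nat.mod_eq_of_lt hj] at e1
  have hij : i = j := Fin.ext (by rw [← hi', e1, hj'])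
  subst hij
  revert e
  cases flipN k i.val <;> cases a <;> cases b <;> simp

/-- The pairs of permutations. -/
noncomputable def dgen (k : ℕ) : Equiv.Perm (Fin 352 × Bool) × Equiv.Perm (Fin 100) :=
  if h : k < 2 then (Equiv.ofBijective (cimg k)
    ⟨cimg_injective h, Finite.surjective_of_injective (cimg_injective h)⟩, gen k) else 1

theorem dgen_fst {k : ℕ} (hk : k < 2) (x : Fin 352 × Bool) : (dgen k).1 x = cimg k x := by
  rw [dgen, dif_pos hk]; rfl

theorem dgen_snd {k : ℕ} (hk : k < 2) : (dgen k).2 = gen k := by rw [dgen, dif_pos hk]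

/-- The double cover. -/
noncomputable def dbl : Subgroup (Equiv.Perm (Fin 352 × Bool) × Equiv.Perm (Fin 100)) :=
  sub dgen (List.range 2)

/-- Point `j` is attached to pair `i`. -/
def inHalf (i j : ℕ) : Bool := (halves.getD i 0).testBit j

theorem half_ok : ((List.range 2).all fun k => (List.range 352).all fun i => (List.range 100).all fun j =>
    inHalf (piN k i) (look 7 (tab.getD k 0) j) == inHalf i j) = true := by decide +kernel

theorem half_distinct : ((List.range 352).all fun i => (List.range i).all fun j =>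
    !(Nat.beq (halves.getD i 0) (halves.getD j 0))) = true := by decide +kernel

theorem halves_bound : (halves.all fun m => Nat.blt m (2 ^ 100)) = true := by decide +kernel

/-- The rows, as functions on the cover. -/
def row (k : Fin 28) (x : Fin 352 × Bool) : ZMod 5 :=
  if x.2 then -(look 10 (rows.getD k.val 0) x.1.val : ZMod 5) else (look 10 (rows.getD k.val 0) x.1.val : ZMod 5)

/-- The value of the image of row `k` under generator `g` at pair `i`. -/
def imgVal (g k i : ℕ) : ℕ :=
  if flipN g i then 5 - look 10 (rows.getD k 0) (piN g i) else look 10 (rows.getD k 0) (piN g i)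

theorem rows_small : ((List.range 28).all fun k => (List.range 352).all fun i =>
    Nat.blt (look 10 (rows.getD k 0) i) 5) = true := by decide +kernel

/-- The combination of the rows at a pair. -/
def combVal (g k i : ℕ) : ℕ :=
  (List.range 28).foldr (fun l s => Nat.add (Nat.mul (imgVal g k (pivots.getD l 0)) (look 10 (rows.getD l 0) i)) s) 0

theorem inv_ok0 : ((List.range 28).all fun k => (List.range 352).all fun i =>
    Nat.beq (combVal 0 k i % 5) (imgVal 0 k i % 5)) = true := by decide +kernel

theorem inv_ok1 : ((List.range 28).all fun k => (List.range 352).all fun i =>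
    Nat.beq (combVal 1 k i % 5) (imgVal 1 k i % 5)) = true := by decide +kernel

theorem cast_foldr (f : ℕ → ℕ) (n : ℕ) :
    (((List.range n).foldr (fun l s => Nat.add (f l) s) 0 : ℕ) : ZMod 5) = ∑ l : Fin n, (f l : ZMod 5) := by
  have : ∀ L : List ℕ, ((L.foldr (fun l s => Nat.add (f l) s) 0 : ℕ) : ZMod 5) =
      (L.map fun l => (f l : ZMod 5)).sum := by
    intro L
    induction L with
    | nil => simp
    | cons a L ih => rw [List.foldr_cons, Nat.add_eq, Nat.cast_add, ih, List.map_cons, List.sum_cons]
  rw [this, Fin.sum_univ_eq_sum_range (fun l => (f l : ZMod 5))]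
  rfl

/-- The span of the rows. -/
noncomputable def rowSpan : Submodule (ZMod 5) (Fin 352 × Bool → ZMod 5) :=
  Submodule.span (ZMod 5) (Set.range row)

theorem gen_rows {g : ℕ} (hg : g < 2) (k : Fin 28) : (fun x => row k ((dgen g).1 x)) ∈ rowSpan := by
  have e : (fun x => row k ((dgen g).1 x)) =
      ∑ l : Fin 28, (imgVal g k.val (pivots.getD l.val 0) : ZMod 5) • row l := by
    funext x
    obtain ⟨i, b⟩ := x
    have hi := (pi_spec hg i.isLt).1
    have hc : (combVal g k.val i.val % 5) = imgVal g k.val i.val % 5 := by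
      have h0 := inv_ok0
      have h1 := inv_ok1
      simp only [List.all_eq_true, List.mem_range, Nat.beq_eq] at h0 h1
      rcases (show g = 0 ∨ g = 1 by omega) with rfl | rfl
      · exact h0 k.val k.isLt i.val i.isLt
      · exact h1 k.val k.isLt i.val i.isLt
    have hc' : (combVal g k.val i.val : ZMod 5) = (imgVal g k.val i.val : ZMod 5) :=
      (ZMod.natCast_eq_natCast_iff' _ _ 5).2 hc
    rw [combVal, cast_foldr] at hc'
    simp only [Nat.mul_eq, Nat.cast_mul] at hc'
    have hsm := rows_small
    simp only [List.all_eq_true, List.mem_range, Nat.blt_eq] at hsm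
    have hlt := hsm k.val k.isLt _ hi
    rw [Finset.sum_apply, dgen_fst hg]
    simp only [Pi.smul_apply, smul_eq_mul, row, cimg, Fin.val_ofNat, Nat.mod_eq_of_lt hi]
    have himg : (imgVal g k.val i.val : ZMod 5) = if flipN g i.val then
        -(look 10 (rows.getD k.val 0) (piN g i.val) : ZMod 5)
        else (look 10 (rows.getD k.val 0) (piN g i.val) : ZMod 5) := by
      unfold imgVal
      split
      · rw [Nat.cast_sub hlt.le, ZMod.natCast_self, zero_sub]
      · rfl
    rw [himg] at hc'
    cases b
    · simp only [Bool.false_xor, Bool.false_eq_true, if_false]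
      exact hc'.symm
    · simp only [Bool.true_xor, if_true, mul_neg, Finset.sum_neg_distrib, hc']
      cases flipN g i.val <;> simp
  rw [e]
  exact Submodule.sum_mem _ fun l _ => Submodule.smul_mem _ _ (Submodule.subset_span ⟨l, rfl⟩)

/-- What all elements of the double cover preserve. -/
theorem dbl_invariant {h : Equiv.Perm (Fin 352 × Bool) × Equiv.Perm (Fin 100)} (hh : h ∈ dbl) :
    (∀ f ∈ rowSpan, (fun x => f (h.1 x)) ∈ rowSpan) ∧
      ∀ (x : Fin 352 × Bool) (j : Fin 100), inHalf (h.1 x).1.val (h.2 j).val = inHalf x.1.val j.val := by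
  change h ∈ sub dgen (List.range 2) at hh
  rw [sub, ← Subgroup.mem_toSubmonoid, Subgroup.closure_toSubmonoid_of_finite] at hh
  induction hh using Submonoid.closure_induction with
  | mem a ha =>
    obtain ⟨k, hk, rfl⟩ := ha
    have hk : k < 2 := List.mem_range.1 hk
    refine ⟨fun f hf => ?_, fun x j => ?_⟩
    · induction hf using Submodule.span_induction with
      | mem v hv => obtain ⟨l, rfl⟩ := hv; exact gen_rows hk l
      | zero => exact zero_mem _
      | add u v _ _ hu hv => exact add_mem hu hv
      | smul c v _ hv => exact Submodule.smul_mem _ c hv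
    · have h := half_ok
      simp only [List.all_eq_true, List.mem_range, beq_iff_eq] at h
      have e := (sound k (by omega) j.val j.isLt).2
      rw [MonoidHom.id_apply, pt_val] at e
      rw [dgen_fst hk, dgen_snd hk, e, val_pt (table_spec (by omega) j.isLt).1]
      simp only [cimg, Fin.val_ofNat, Nat.mod_eq_of_lt (pi_spec hk x.1.isLt).1]
      exact h k hk x.1.val x.1.isLt j.val j.isLt
  | one => exact ⟨fun f hf => hf, fun x j => rfl⟩
  | mul a b _ _ iha ihb =>
    exact ⟨fun f hf => ihb.1 _ (iha.1 f hf), fun x j => (iha.2 _ _).trans (ihb.2 x j)⟩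

theorem pivot_ok : ((List.range 28).all fun k => Nat.blt (pivots.getD k 0) 352 &&
    (List.range 28).all fun l => Nat.beq (look 10 (rows.getD l 0) (pivots.getD k 0)) (if l == k then 1 else 0)) = true := by
  decide +kernel

theorem support_ok : ((List.range 28).all fun k => (List.range 352).any fun i =>
      !(Nat.beq (look 10 (rows.getD 0 0) i) 0) && !(Nat.beq (look 10 (rows.getD k 0) i) 0)) &&
    ((List.range 352).all fun i => (List.range 28).any fun k => !(Nat.beq (look 10 (rows.getD k 0) i) 0)) = true := by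
  decide +kernel

/-- The exchange of all pairs. -/
def flipAll : Equiv.Perm (Fin 352 × Bool) where
  toFun x := (x.1, !x.2)
  invFun x := (x.1, !x.2)
  left_inv x := by simp
  right_inv x := by simp

theorem kernel_cases {h : Equiv.Perm (Fin 352 × Bool) × Equiv.Perm (Fin 100)} (hh : h ∈ dbl)
    (h2 : h.2 = 1) : h = 1 ∨ h = (flipAll, 1) := by
  obtain ⟨hrow, hhalf⟩ := dbl_invariant hh
  have hfix : ∀ x, (h.1 x).1 = x.1 := by
    intro x
    have hm : halves.getD (h.1 x).1.val 0 = halves.getD x.1.val 0 := by
      refine Nat.eq_of_testBit_eq fun j => ?_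
      by_cases hj : j < 100
      · have := hhalf x ⟨j, hj⟩
        rw [h2, Equiv.Perm.one_apply] at this
        exact this
      · have hb := halves_bound
        simp only [List.all_eq_true, Nat.blt_eq] at hb
        have : ∀ i : Fin 352, (halves.getD i.val 0).testBit j = false := fun i => by
          refine Nat.testBit_lt_two_pow (lt_of_lt_of_le ?_ (Nat.pow_le_pow_right (by norm_num) (not_lt.1 hj)))
          refine hb _ ?_
          rw [List.getD_eq_getElem _ _ (by rw [show halves.length = 352 by decide +kernel]; exact i.isLt)]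
          exact List.getElem_mem _
        rw [this, this]
    have hd := half_distinct
    simp only [List.all_eq_true, List.mem_range, Bool.not_eq_true', Bool.eq_false_iff, ne_eq,
      Nat.beq_eq] at hd
    rcases lt_trichotomy (h.1 x).1.val x.1.val with hlt | heq | hlt
    · exact absurd hm.symm (hd _ x.1.isLt _ hlt)
    · exact Fin.ext heq
    · exact absurd hm (hd _ (h.1 x).1.isLt _ hlt)
  let s : Fin 352 → Bool := fun i => (h.1 (i, false)).2
  have hact : ∀ i b, h.1 (i, b) = (i, xor b (s i)) := by
    intro i b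
    have e0 : h.1 (i, false) = (i, s i) := Prod.ext (hfix (i, false)) rfl
    cases b
    · rw [e0, Bool.false_xor]
    · have hne : h.1 (i, true) ≠ (i, s i) := fun e => by
        simpa using h.1.injective (e.trans e0.symm)
      have e1 : (h.1 (i, true)).1 = i := hfix (i, true)
      refine Prod.ext e1 ?_
      by_contra h'
      refine hne (Prod.ext e1 ?_)
      revert h'
      cases s i <;> cases (h.1 (i, true)).2 <;> simp
  have hp := pivot_ok
  simp only [List.all_eq_true, List.mem_range, Bool.and_eq_true, Nat.blt_eq, Nat.beq_eq] at hp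
  let piv : Fin 28 → Fin 352 := fun k => ⟨pivots.getD k.val 0, (hp k.val k.isLt).1⟩
  let sg : Bool → ZMod 5 := fun b => if b then -1 else 1
  have hrowv : ∀ k i b, row k (i, b) = sg b * (look 10 (rows.getD k.val 0) i.val : ZMod 5) := by
    intro k i b
    cases b <;> simp [row, sg]
  have hpiv : ∀ k l, (look 10 (rows.getD l.val 0) (piv k).val : ZMod 5) = if l = k then 1 else 0 := by
    intro k l
    rw [show (piv k).val = pivots.getD k.val 0 from rfl, (hp k.val k.isLt).2 l.val l.isLt]
    simp only [beq_iff_eq, Fin.val_inj]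
    split_ifs <;> simp
  have hkey : ∀ k i, look 10 (rows.getD k.val 0) i.val ≠ 0 → s i = s (piv k) := by
    intro k i hne
    obtain ⟨c, hc⟩ := (Submodule.mem_span_range_iff_exists_fun _).1
      (hrow (row k) (Submodule.subset_span ⟨k, rfl⟩))
    have hci : ∀ i b, ∑ l, c l * row l (i, b) = row k (h.1 (i, b)) := fun i b => by
      simpa [Finset.sum_apply] using congrFun hc (i, b)
    have hcm : ∀ m, c m = sg (s (piv m)) * if k = m then 1 else 0 := by
      intro m
      have := hci (piv m) false
      simp only [hact, hrowv, hpiv, Bool.false_xor] at this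
      simpa [sg, Finset.sum_ite_eq', mul_ite] using this
    have := hci i false
    simp only [hact, hrowv, hcm, Bool.false_xor] at this
    simp [Finset.sum_ite_eq, sg] at this
    have hsm := rows_small
    simp only [List.all_eq_true, List.mem_range, Nat.blt_eq] at hsm
    have hlt := hsm k.val k.isLt i.val i.isLt
    have key : ∀ v : Fin 5, v ≠ 0 → ∀ a b : Bool,
        sg a * (v.val : ZMod 5) = sg b * (v.val : ZMod 5) → a = b := by decide
    exact key ⟨_, hlt⟩ (fun e => hne (congrArg Fin.val e)) _ _ (by simpa [sg] using this.symm)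
  have hsup := support_ok
  simp only [List.all_eq_true, List.mem_range, Bool.and_eq_true, List.any_eq_true, Bool.not_eq_true',
    Bool.eq_false_iff, ne_eq, Nat.beq_eq, decide_eq_true_eq] at hsup
  have hall : ∀ i, s i = s (piv 0) := by
    intro i
    obtain ⟨k, hk, hne⟩ := hsup.2 i.val i.isLt
    obtain ⟨a, ha, h0, hk'⟩ := hsup.1 k hk
    rw [hkey ⟨k, hk⟩ i hne, ← hkey ⟨k, hk⟩ ⟨a, ha⟩ hk', hkey 0 ⟨a, ha⟩ h0]
  cases hs : s (piv 0)
  · refine Or.inl (Prod.ext (Equiv.ext fun ⟨i, b⟩ => ?_) h2)
    rw [hact, hall, hs, Bool.xor_false]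
    rfl
  · refine Or.inr (Prod.ext (Equiv.ext fun ⟨i, b⟩ => ?_) h2)
    rw [hact, hall, hs, Bool.xor_true]
    rfl

/-- A word applied to a cover point, the last letter first. -/
def cev : List ℕ → ℕ × Bool → ℕ × Bool
  | [], p => p
  | k :: l, p => (piN k (cev l p).1, xor (cev l p).2 (flipN k (cev l p).1))

theorem cev_spec : ∀ l : List ℕ, (∀ k ∈ l, k < 2) → ∀ (i : Fin 352) (b : Bool),
    (cev l (i.val, b)).1 < 352 ∧
      (wordEl dgen l).1 (i, b) = (Fin.ofNat 352 (cev l (i.val, b)).1, (cev l (i.val, b)).2)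
  | [], _, i, b => ⟨i.isLt, by
      simp only [wordEl, List.map_nil, List.prod_nil, Prod.fst_one, Equiv.Perm.one_apply, cev]
      exact Prod.ext (Fin.ext (Nat.mod_eq_of_lt i.isLt).symm) rfl⟩
  | k :: l, hl, i, b => by
    obtain ⟨h1, h2⟩ := cev_spec l (fun a ha => hl a (List.mem_cons_of_mem _ ha)) i b
    have hk := hl k List.mem_cons_self
    refine ⟨(pi_spec hk h1).1, ?_⟩
    rw [show wordEl dgen (k :: l) = dgen k * wordEl dgen l by simp [wordEl], Prod.fst_mul,
      Equiv.Perm.mul_apply, h2, dgen_fst hk]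
    simp only [cimg, cev, Fin.val_ofNat, Nat.mod_eq_of_lt h1]

theorem snd_wordEl : ∀ l : List ℕ, (∀ k ∈ l, k < 2) → (wordEl dgen l).2 = wordEl gen l
  | [], _ => rfl
  | k :: l, hl => by
    rw [show wordEl dgen (k :: l) = dgen k * wordEl dgen l by simp [wordEl],
      show wordEl gen (k :: l) = gen k * wordEl gen l by simp [wordEl], Prod.snd_mul,
      dgen_snd (hl k List.mem_cons_self), snd_wordEl l fun a ha => hl a (List.mem_cons_of_mem _ ha)]

theorem z_ok : ((zWordA ++ zWordB).all (fun k => Nat.blt k 2) &&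
    ((List.range 100).all fun j => ev 7 tab (zWordA ++ zWordB) j == ev 7 tab (zWordB ++ zWordA) j) &&
    !(cev (zWordA ++ zWordB) (0, false) == cev (zWordB ++ zWordA) (0, false))) = true := by
  decide +kernel

open scoped Classical in
/-- A stem extension of the Higman-Sims group with kernel of order two. -/
theorem exists_two_cover : ∃ (Γ : Type) (_ : Group Γ) (_ : Finite Γ) (σ : Γ →* hsPerm),
    Cfsg.IsStemExtension σ ∧ Nat.card σ.ker = 2 := by
  have hmem : ∀ h ∈ dbl, h.2 ∈ hsPerm := by
    intro h hh
    have : dbl ≤ hsPerm.comap (MonoidHom.snd _ _) := by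
      rw [dbl, sub, Subgroup.closure_le]
      rintro _ ⟨k, hk, rfl⟩
      have hk : k < 2 := List.mem_range.1 hk
      show (dgen k).2 ∈ hsPerm
      rw [dgen_snd hk]
      exact gen_mem_sub gen (List.mem_range.2 (by omega))
    exact this hh
  let σ : dbl →* hsPerm :=
    ((MonoidHom.snd _ _).comp dbl.subtype).codRestrict hsPerm fun h => hmem h.1 h.2
  have hker : ∀ x : dbl, x ∈ σ.ker ↔ x.1.2 = 1 := fun x => by
    rw [MonoidHom.mem_ker, Subtype.ext_iff]
    rfl
  -- the commutator
  have hz := z_ok
  simp only [Bool.and_eq_true, List.all_eq_true, Nat.blt_eq, List.mem_range, beq_iff_eq,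
    Bool.not_eq_true', beq_eq_false_iff_ne, ne_eq] at hz
  obtain ⟨⟨hl, h100⟩, hne⟩ := hz
  have hlA : ∀ k ∈ zWordA, k < 2 := fun k hk => hl k (List.mem_append_left _ hk)
  have hlB : ∀ k ∈ zWordB, k < 2 := fun k hk => hl k (List.mem_append_right _ hk)
  have hl' : ∀ k ∈ zWordB ++ zWordA, k < 2 := fun k hk =>
    (List.mem_append.1 hk).elim (hlB k) (hlA k)
  let a : dbl := ⟨wordEl dgen zWordA, wordEl_mem dgen fun k hk => List.mem_range.2 (hlA k hk)⟩
  let b : dbl := ⟨wordEl dgen zWordB, wordEl_mem dgen fun k hk => List.mem_range.2 (hlB k hk)⟩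
  have hab : (a * b).1.2 = (b * a).1.2 := by
    show (wordEl dgen zWordA * wordEl dgen zWordB).2 = (wordEl dgen zWordB * wordEl dgen zWordA).2
    rw [← wordEl_append, ← wordEl_append, snd_wordEl _ hl, snd_wordEl _ hl']
    refine Equiv.ext fun x => ?_
    have e1 := (ev_spec sound _ (fun k hk => (hl k hk).trans (by norm_num)) x.val x.isLt).2
    have e2 := (ev_spec sound _ (fun k hk => (hl' k hk).trans (by norm_num)) x.val x.isLt).2
    rw [MonoidHom.id_apply, pt_val] at e1 e2
    rw [e1, e2, h100 x.val x.isLt]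
  have hc1 : ⁅a, b⁆ ∈ σ.ker := by
    rw [hker, commutatorElement_def]
    show ((a * b).1 * a.1⁻¹ * b.1⁻¹).2 = 1
    rw [Prod.snd_mul, Prod.snd_mul, hab]
    show ((b * a).1 * a.1⁻¹ * b.1⁻¹).2 = 1
    rw [Subgroup.coe_mul]
    simp
  have hc2 : ⁅a, b⁆ ≠ 1 := by
    intro e
    have e' : wordEl dgen (zWordA ++ zWordB) = wordEl dgen (zWordB ++ zWordA) := by
      rw [wordEl_append, wordEl_append]
      exact congrArg Subtype.val (commutatorElement_eq_one_iff_mul_comm.1 e)
    obtain ⟨p1, q1⟩ := cev_spec _ hl 0 false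
    obtain ⟨p2, q2⟩ := cev_spec _ hl' 0 false
    rw [e', q2] at q1
    obtain ⟨r1, r2⟩ := Prod.mk.inj q1
    have r1' := congrArg Fin.val r1
    simp only [Fin.val_ofNat, Nat.mod_eq_of_lt p1, Nat.mod_eq_of_lt p2] at r1'
    exact hne (Prod.ext r1'.symm r2.symm)
  have hcases : ∀ x ∈ σ.ker, x = 1 ∨ x = ⁅a, b⁆ := by
    intro x hx
    rcases kernel_cases x.2 ((hker x).1 hx) with h | h
    · exact Or.inl (Subtype.ext h)
    · rcases kernel_cases (⁅a, b⁆).2 ((hker _).1 hc1) with h' | h'
      · exact absurd (Subtype.ext h') hc2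
      · exact Or.inr (Subtype.ext (h.trans h'.symm))
  refine ⟨dbl, inferInstance, inferInstance, σ, ⟨?_, ?_, ?_⟩, ?_⟩
  · intro y
    have hy : (y : Equiv.Perm (Fin 100)) ∈ sub gen (List.range 2) := hsPerm_le y.2
    have hle : sub gen (List.range 2) ≤ dbl.map (MonoidHom.snd _ _) := by
      rw [sub, Subgroup.closure_le]
      rintro _ ⟨k, hk, rfl⟩
      exact ⟨dgen k, gen_mem_sub dgen hk, dgen_snd (List.mem_range.1 hk)⟩
    obtain ⟨h, hh, e⟩ := hle hy
    exact ⟨⟨h, hh⟩, Subtype.ext e⟩
  · intro x hx
    rw [Subgroup.mem_center_iff]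
    intro g
    have hn : g * x * g⁻¹ ∈ σ.ker := (inferInstance : σ.ker.Normal).conj_mem x hx g
    rcases hcases x hx with rfl | rfl
    · rw [mul_one, one_mul]
    · rcases hcases _ hn with h | h
      · exact absurd (conj_eq_one_iff.1 h) hc2
      · exact mul_inv_eq_iff_eq_mul.1 h
  · intro x hx
    rcases hcases x hx with rfl | rfl
    · exact one_mem _
    · exact Subgroup.commutator_mem_commutator (Subgroup.mem_top a) (Subgroup.mem_top b)
  · rw [Nat.card_eq_two_iff]
    refine ⟨1, ⟨_, hc1⟩, fun e => hc2 (congrArg Subtype.val e).symm, Set.eq_univ_of_forall fun x => ?_⟩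
    rcases hcases x.1 x.2 with h | h
    · exact Or.inl (Subtype.ext h)
    · exact Or.inr (Subtype.ext h)

end Cfsg.Agent.HSPerm
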